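import Mathlib.RingTheory.Jacobson.Ring
import Mathlib.RingTheory.Localization.Integral
import Mathlib.RingTheory.RingHom.FiniteType
import Mathlib.RingTheory.RingHom.Finite
import Mathlib.RingTheory.Algebraic.Integral

/-!
# Generic finiteness: a field of finite type over `A` is finite over `A[1/f]` for some `f`
-/

set_option autoImplicit false
universe u v

namespace K24.GenFin

/-- If the field `K` is of finite type over `A`, there is `f ∈ A`, nonzero in `K`, such that `K` is
finite over every ring `E` between `A` and `K` in which `f` is invertible. -/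
theorem exists_finite {A : Type u} {K : Type v} [CommRing A] [Field K] (φ : A →+* K)
    (hφ : φ.FiniteType) : ∃ f : A, φ f ≠ 0 ∧ ∀ {E : Type u} [CommRing E] (α : A →+* E)
      (β : E →+* K), β.comp α = φ → IsUnit (α f) → β.Finite := by
  classical
  let D : Subring K := φ.range
  let _ : Algebra A K := φ.toAlgebra
  let _ : Algebra A D := φ.rangeRestrict.toAlgebra
  have _ : IsScalarTower A D K := IsScalarTower.of_algebraMap_eq fun x => rfl
  have hAK : Algebra.FiniteType A K := hφ
  have hDK : Algebra.FiniteType D K := Algebra.FiniteType.of_restrictScalars_finiteType A D K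
  have hinj : Function.Injective (algebraMap D K) := Subtype.val_injective
  let _ : Algebra (FractionRing D) K := (IsFractionRing.lift hinj).toAlgebra
  have _ : IsScalarTower D (FractionRing D) K :=
    IsScalarTower.of_algebraMap_eq fun x => (IsFractionRing.lift_algebraMap hinj x).symm
  have hFK : Algebra.FiniteType (FractionRing D) K :=
    Algebra.FiniteType.of_restrictScalars_finiteType D _ K
  have hfin : Module.Finite (FractionRing D) K := finite_of_finite_type_of_isJacobsonRing _ _
  have halg : Algebra.IsAlgebraic D K :=
    (IsFractionRing.comap_isAlgebraic_iff (K := FractionRing D)).mpr inferInstance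
  have hAD : Algebra.IsIntegral A D :=
    Algebra.IsIntegral.of_surjective (Algebra.ofId A D) φ.rangeRestrict_surjective
  obtain ⟨S, hS⟩ := hAK.out
  have h1 : ∀ x : K, ∃ y : A, φ y ≠ 0 ∧ IsIntegral A (φ y * x) := by
    intro x
    obtain ⟨y, hy0, hy⟩ := (halg.isAlgebraic x).exists_integral_multiple
    obtain ⟨y', rfl⟩ := φ.rangeRestrict_surjective y
    refine ⟨y', fun h0 => hy0 (Subtype.ext h0), ?_⟩
    exact isIntegral_trans (R := A) (A := D) _ hy
  choose y hy0 hy using h1
  refine ⟨∏ x ∈ S, y x, ?_, ?_⟩
  · rw [map_prod]
    exact Finset.prod_ne_zero_iff.mpr fun x _ => hy0 x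
  · intro E _ α β hβ hu
    let _ : Algebra A E := α.toAlgebra
    let _ : Algebra E K := β.toAlgebra
    have _ : IsScalarTower A E K :=
      IsScalarTower.of_algebraMap_eq fun x => (RingHom.congr_fun hβ x).symm
    have hEK : Algebra.FiniteType E K := Algebra.FiniteType.of_restrictScalars_finiteType A E K
    have hle : Algebra.adjoin A (S : Set K) ≤ (integralClosure E K).restrictScalars A := by
      rw [Algebra.adjoin_le_iff]
      intro x hx
      have hux : IsUnit (α (y x)) := by
        rw [map_prod] at hu
        exact isUnit_of_dvd_unit (Finset.dvd_prod_of_mem (fun x => α (y x)) hx) hu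
      obtain ⟨u, hu1⟩ := hux.exists_left_inv
      have h2 : IsIntegral E (φ (y x) * x) := (hy x).tower_top
      have h3 : x = algebraMap E K u * (φ (y x) * x) := by
        have h4 : φ (y x) = algebraMap E K (α (y x)) := (RingHom.congr_fun hβ (y x)).symm
        rw [h4, ← mul_assoc, ← map_mul, hu1, map_one, one_mul]
      change IsIntegral E x
      rw [h3]
      exact isIntegral_algebraMap.mul h2
    have hint : Algebra.IsIntegral E K := by
      constructor
      intro x
      have : x ∈ Algebra.adjoin A (S : Set K) := by rw [hS]; trivial
      exact hle this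
    exact Algebra.IsIntegral.finite

end K24.GenFin
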