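import Mathlib.RingTheory.AdicCompletion.Basic
import Mathlib.RingTheory.AdicCompletion.Noetherian
import Mathlib.RingTheory.Noetherian.Basic
import Mathlib.RingTheory.Spectrum.Prime.Basic

/-!
# Rig-closed primes

`RigClosed I q`: `I ⊄ q` and `q` is maximal among the primes not containing `I`.
-/

set_option autoImplicit false
universe u

namespace K24.Rig

/-- `q` does not contain `I` and is maximal among the primes not containing `I`. -/
def RigClosed {A : Type*} [CommRing A] (I : Ideal A) (q : PrimeSpectrum A) : Prop :=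
  ¬ I ≤ q.asIdeal ∧ ∀ y : PrimeSpectrum A, q ≤ y → ¬ I ≤ y.asIdeal → y = q

/-- In an `I`-adically complete ring every maximal ideal contains `I`. -/
theorem le_of_isMaximal {A : Type*} [CommRing A] (I : Ideal A) [IsAdicComplete I A] (m : Ideal A)
    [hm : m.IsMaximal] : I ≤ m :=
  (IsAdicComplete.le_jacobson_bot I).trans (sInf_le ⟨bot_le, hm⟩)

/-- Above every prime not containing `I` there is a rig-closed one. -/
theorem exists_rigClosed_ge {A : Type*} [CommRing A] [IsNoetherianRing A] (I : Ideal A)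
    (p : PrimeSpectrum A) (hp : ¬ I ≤ p.asIdeal) : ∃ q : PrimeSpectrum A, p ≤ q ∧ RigClosed I q := by
  have hwf : WellFoundedGT (Ideal A) := inferInstance
  obtain ⟨q, hq1, hq2⟩ := (wellFounded_gt (α := Ideal A)).has_min
    {J : Ideal A | J.IsPrime ∧ p.asIdeal ≤ J ∧ ¬ I ≤ J} ⟨p.asIdeal, p.2, le_rfl, hp⟩
  have := hq1.1
  refine ⟨⟨q, hq1.1⟩, hq1.2.1, hq1.2.2, fun y hy hyI => ?_⟩
  by_contra hne
  exact hq2 y.asIdeal ⟨y.2, hq1.2.1.trans hy, hyI⟩
    (lt_of_le_of_ne hy fun h => hne (PrimeSpectrum.ext h.symm))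

end K24.Rig
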