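import Groth.Agent.S8804
import Groth.Agent.AdicRing.K24.RigDef

/-!
# The unique maximal ideal above a rig-closed prime
-/

set_option autoImplicit false
universe u

namespace K24.Rig

theorem tfae804 (A : Type u) [CommRing A] [IsNoetherianRing A] (I : Ideal A) [IsAdicComplete I A]
    (q : PrimeSpectrum A) (hq : RigClosed I q) : ringKrullDim (A ⧸ q.asIdeal) = 1 ∧
      (∀ m : Ideal (A ⧸ q.asIdeal),
        m.IsMaximal → m = (I.map (Ideal.Quotient.mk q.asIdeal)).radical) ∧
        IsAdicComplete (I.map (Ideal.Quotient.mk q.asIdeal)).radical (A ⧸ q.asIdeal) :=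
  ((Groth.Agent.S8804.result A I q).out 0 2).mp hq

/-- There is only one maximal ideal above a rig-closed prime. -/
theorem eq_of_isMaximal_of_rigClosed {A : Type u} [CommRing A] [IsNoetherianRing A] {I : Ideal A}
    [IsAdicComplete I A] {q : PrimeSpectrum A} (hq : RigClosed I q) (m n : Ideal A)
    (hm : m.IsMaximal) (hn : n.IsMaximal) (hqm : q.asIdeal ≤ m) (hqn : q.asIdeal ≤ n) : m = n := by
  have h := (tfae804 A I q hq).2.1
  have key : ∀ m : Ideal A, m.IsMaximal → q.asIdeal ≤ m →
      m = ((I.map (Ideal.Quotient.mk q.asIdeal)).radical).comap (Ideal.Quotient.mk q.asIdeal) := by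
    intro m hm hqm
    have hker : RingHom.ker (Ideal.Quotient.mk q.asIdeal) ≤ m := by rwa [Ideal.mk_ker]
    have h1 : (m.map (Ideal.Quotient.mk q.asIdeal)).IsMaximal :=
      Ideal.IsMaximal.map_of_surjective_of_ker_le Ideal.Quotient.mk_surjective hker
    rw [← h _ h1, Ideal.comap_map_of_surjective _ Ideal.Quotient.mk_surjective]
    exact (sup_eq_left.mpr hker).symm
  rw [key m hm hqm, key n hn hqn]

end K24.Rig
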