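import Groth.Agent.AdicRing.K24.Tft
import Groth.Agent.AdicRing.K24.Rig804
import Groth.Agent.AdicRing.K24.GenFin

/-!
# Making the image of a rig-closed prime rig-closed by a completed localization (`S8840`)
-/

set_option autoImplicit false
universe u

namespace K24.Below

open K24.Rig K24.CLoc K24.Tft

variable {A B : Type u} [CommRing A] [CommRing B] [IsNoetherianRing A] {I : Ideal A}
  [IsAdicComplete I A] {φ : A →+* B}

omit [IsNoetherianRing A] [IsAdicComplete I A] in
/-- If `f ∉ m` for the maximal ideal `m ⊇ q`, then `f` is a unit modulo the rig-closed prime `q`. -/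
theorem isUnit_mk_of_notMem (h : TFT I φ) {q : PrimeSpectrum B} (hq : RigClosed (I.map φ) q)
    {m : Ideal B} (hm : m.IsMaximal) (hqm : q.asIdeal ≤ m) {g : B} (hg : g ∉ m) :
    IsUnit (Ideal.Quotient.mk q.asIdeal g) := by
  have := h.noeth
  have := h.complete
  by_contra hnu
  obtain ⟨M, hM, hgM⟩ := exists_max_ideal_of_mem_nonunits hnu
  have hM' : (M.comap (Ideal.Quotient.mk q.asIdeal)).IsMaximal :=
    Ideal.comap_isMaximal_of_surjective _ Ideal.Quotient.mk_surjective
  have hle : q.asIdeal ≤ M.comap (Ideal.Quotient.mk q.asIdeal) := by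
    intro x hx
    rw [Ideal.mem_comap, Ideal.Quotient.eq_zero_iff_mem.mpr hx]
    exact M.zero_mem
  have := eq_of_isMaximal_of_rigClosed hq m _ hm hM' hqm hle
  exact hg (by rw [this]; exact hgM)

omit [IsAdicComplete I A] in
/-- `S8840`, for all models of the completed localizations. -/
theorem exists_below (h : TFT I φ) (q : PrimeSpectrum B) (hq : RigClosed (I.map φ) q) :
    ∃ f : A, IsUnit (Ideal.Quotient.mk q.asIdeal (φ f)) ∧
      ∀ {A' B' : Type u} [CommRing A'] [CommRing B'] (a : A →+* A') (b : B →+* B')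
        (ψ : A' →+* B'), IsCLoc I f a → IsCLoc (I.map φ) (φ f) b → ψ.comp a = b.comp φ →
        ∀ q' : PrimeSpectrum B', q'.asIdeal = q.asIdeal.map b →
          RigClosed (I.map a) (PrimeSpectrum.comap ψ q') := by
  have hBn := h.noeth
  have hBc := h.complete
  obtain ⟨m, hm, hqm⟩ := Ideal.exists_le_maximal q.asIdeal q.2.ne_top
  have hIm : I.map φ ≤ m := le_of_isMaximal _ m
  let _ : Field (B ⧸ m) := Ideal.Quotient.field m
  have hft : ((Ideal.Quotient.mk m).comp φ).FiniteType := by
    have e : (Ideal.Quotient.mk m).comp φ = (Ideal.Quotient.factor hIm).comp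
      ((Ideal.Quotient.mk (I.map φ)).comp φ) := by ext x; rfl
    rw [e]
    exact RingHom.FiniteType.comp (RingHom.FiniteType.of_surjective _
      (Ideal.Quotient.factor_surjective hIm)) h.ft
  obtain ⟨f, hf0, hf⟩ := K24.GenFin.exists_finite ((Ideal.Quotient.mk m).comp φ) hft
  have hfm : φ f ∉ m := fun hmem => hf0 (Ideal.Quotient.eq_zero_iff_mem.mpr hmem)
  have hunit := isUnit_mk_of_notMem h hq hm hqm hfm
  refine ⟨f, hunit, ?_⟩
  intro A' B' _ _ a b ψ ha hb hψ q' hq'
  have hA'n := ha.isNoetherianRing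
  have hA'c := ha.complete
  have htft : TFT I (b.comp φ) := h.comp hb.tft
  rw [← hψ] at htft
  have htft' : TFT (I.map a) ψ := htft.of_comp
  have hrig : RigClosed ((I.map a).map ψ) q' := by
    have := hb.rigClosed_map q hq hunit q' hq'
    rwa [Ideal.map_map, hψ, ← Ideal.map_map]
  apply htft'.rigClosed_of_residue q' hrig
  intro N hN hqN
  have hqN' : q.asIdeal ≤ N.comap b := by
    rw [← Ideal.map_le_iff_le_comap, ← hq']
    exact hqN
  -- `B / (N ∩ B) → B' / N` is bijective
  have hsurj : Function.Surjective ((Ideal.Quotient.mk N).comp b) := by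
    intro y
    obtain ⟨y, rfl⟩ := Ideal.Quotient.mk_surjective y
    obtain ⟨x, hx⟩ := hb.quot_surjective q.asIdeal hunit y
    refine ⟨x, ?_⟩
    rw [RingHom.comp_apply, eq_comm, Ideal.Quotient.eq]
    exact hqN (by rw [hq']; exact hx)
  have hker : RingHom.ker ((Ideal.Quotient.mk N).comp b) = N.comap b := by
    rw [← RingHom.comap_ker, Ideal.mk_ker]
  have hNm : (N.comap b).IsMaximal := by
    let _ : Field (B' ⧸ N) := Ideal.Quotient.field N
    rw [← hker]
    exact RingHom.ker_isMaximal_of_surjective _ hsurj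
  have hmN : RingHom.ker ((Ideal.Quotient.mk N).comp b) = m := by
    rw [hker]
    exact eq_of_isMaximal_of_rigClosed hq _ _ hNm hm hqN' hqm
  let e : B ⧸ m ≃+* B' ⧸ N := (Ideal.quotEquivOfEq hmN.symm).trans
    (RingHom.quotientKerEquivOfSurjective hsurj)
  have he : ∀ x : B, e (Ideal.Quotient.mk m x) = Ideal.Quotient.mk N (b x) := fun x => rfl
  let β : A' →+* B ⧸ m := (e.symm : B' ⧸ N →+* B ⧸ m).comp ((Ideal.Quotient.mk N).comp ψ)
  have hβ : β.comp a = (Ideal.Quotient.mk m).comp φ := by
    ext x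
    apply e.injective
    have h1 : e (β (a x)) = Ideal.Quotient.mk N (ψ (a x)) := e.apply_symm_apply _
    have h2 : e (((Ideal.Quotient.mk m).comp φ) x) = Ideal.Quotient.mk N (b (φ x)) := he _
    rw [RingHom.comp_apply, h1, h2]
    exact congrArg _ (RingHom.congr_fun hψ x)
  have hfin : β.Finite := hf a β hβ ha.isUnit
  have hfac : (Ideal.Quotient.mk N).comp ψ = (e : B ⧸ m →+* B' ⧸ N).comp β := by
    ext x
    change _ = e (e.symm _)
    rw [RingEquiv.apply_symm_apply]
  rw [hfac]
  exact (RingHom.Finite.of_surjective _ e.surjective).comp hfin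

end K24.Below
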