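import Groth.Agent.Ega4A.CompleteNoeth
import Mathlib.RingTheory.AdicCompletion.RingHom
import Mathlib.RingTheory.AdicCompletion.Completeness
import Mathlib.RingTheory.AdicCompletion.Noetherian
import Mathlib.RingTheory.Localization.Away.Basic
import Mathlib.RingTheory.Localization.Submodule
import Mathlib.RingTheory.Ideal.Quotient.Noetherian

/-!
# Completed principal localizations, abstractly

`IsCLoc I f a`: the ring map `a : A → A'` exhibits `A'` as the `I`-adic completion of `A[1/f]`.
-/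

set_option autoImplicit false
universe u

namespace K24.CLoc

/-- `a : A → A'` is a completed localization of `(A, I)` at `f`. -/
structure IsCLoc {A A' : Type*} [CommRing A] [CommRing A'] (I : Ideal A) (f : A) (a : A →+* A') :
    Prop where
  complete : IsAdicComplete (I.map a) A'
  isUnit : IsUnit (a f)
  surj : ∀ (n : ℕ) (y : A'), ∃ (x : A) (k : ℕ), a f ^ k * y - a x ∈ (I.map a) ^ n
  inj : ∀ (n : ℕ) (x : A), a x ∈ (I.map a) ^ n → ∃ k : ℕ, f ^ k * x ∈ I ^ n

theorem mem_pow_map_iff {R : Type*} [CommRing R] (J : Ideal R) (hJ : J.FG) (n : ℕ)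
    (y : AdicCompletion J R) :
    y ∈ (J.map (algebraMap R (AdicCompletion J R))) ^ n ↔ AdicCompletion.evalₐ J n y = 0 := by
  have hker : ((J.map (algebraMap R (AdicCompletion J R))) ^ n).restrictScalars R =
      (J ^ n • ⊤ : Submodule R (AdicCompletion J R)) := by
    rw [← Ideal.map_pow]
    exact (Ideal.smul_top_eq_map _).symm
  rw [← Submodule.restrictScalars_mem R, hker,
    AdicCompletion.pow_smul_top_eq_ker_eval hJ, LinearMap.mem_ker]
  have h : (J ^ n • ⊤ : Ideal R) = J ^ n := by ext x; simp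
  constructor
  · intro h0
    have h1 := congrArg (Ideal.quotientEquivAlgOfEq R h) h0
    rw [map_zero] at h1
    exact h1
  · intro h0
    have h1 : Ideal.quotientEquivAlgOfEq R h (AdicCompletion.eval J _ n y) =
      Ideal.quotientEquivAlgOfEq R h 0 := by
      rw [map_zero]; exact h0
    exact (Ideal.quotientEquivAlgOfEq R h).injective h1

theorem isAdicComplete_map {R : Type*} [CommRing R] (J : Ideal R) (hJ : J.FG) :
    IsAdicComplete (J.map (algebraMap R (AdicCompletion J R))) (AdicCompletion J R) :=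
  (IsAdicComplete.map_algebraMap_iff _ _).mpr (AdicCompletion.isAdicComplete hJ)

theorem algebraMap_comp {A R : Type*} [CommRing A] [CommRing R] [Algebra A R] (J : Ideal R) :
    algebraMap A (AdicCompletion J R) = (algebraMap R (AdicCompletion J R)).comp (algebraMap A R) :=
  rfl

/-- Completion of an abstract localization. -/
theorem isCLoc_of_isLocalization {A R : Type*} [CommRing A] [CommRing R] [Algebra A R]
    (I : Ideal A) (hI : I.FG) (f : A) [IsLocalization.Away f R] :
    IsCLoc I f ((algebraMap R (AdicCompletion (I.map (algebraMap A R)) R)).comp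
      (algebraMap A R)) := by
  set J := I.map (algebraMap A R) with hJ
  have hJfg : J.FG := hI.map _
  have hmap : I.map ((algebraMap R (AdicCompletion J R)).comp (algebraMap A R)) =
      J.map (algebraMap R (AdicCompletion J R)) := by rw [← Ideal.map_map]
  constructor
  · rw [hmap]; exact isAdicComplete_map J hJfg
  · rw [RingHom.comp_apply]
    exact (IsLocalization.Away.algebraMap_isUnit f).map _
  · intro n y
    obtain ⟨z, hz⟩ := Ideal.Quotient.mk_surjective (AdicCompletion.evalₐ J n y)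
    obtain ⟨k, x, hx⟩ := IsLocalization.Away.surj f z
    refine ⟨x, k, ?_⟩
    rw [hmap, mem_pow_map_iff J hJfg, map_sub, map_mul, ← hz, RingHom.comp_apply,
      RingHom.comp_apply, ← hx, map_mul, map_mul, map_pow, map_pow, map_pow]
    have h1 : ∀ r : R, AdicCompletion.evalₐ J n (algebraMap R (AdicCompletion J R) r) =
        Ideal.Quotient.mk (J ^ n) r := fun r => AdicCompletion.evalₐ_of J n r
    rw [h1, h1]
    ring
  · intro n x hx
    rw [hmap, mem_pow_map_iff J hJfg, RingHom.comp_apply] at hx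
    have h1 : AdicCompletion.evalₐ J n (algebraMap R (AdicCompletion J R) (algebraMap A R x)) =
        Ideal.Quotient.mk (J ^ n) (algebraMap A R x) := AdicCompletion.evalₐ_of J n _
    rw [h1, Ideal.Quotient.eq_zero_iff_mem, hJ, ← Ideal.map_pow,
      IsLocalization.mem_map_algebraMap_iff (Submonoid.powers f)] at hx
    obtain ⟨⟨⟨z, hz⟩, ⟨_, k, rfl⟩⟩, h2⟩ := hx
    rw [← map_mul] at h2
    obtain ⟨⟨_, l, rfl⟩, h3⟩ := (IsLocalization.eq_iff_exists (Submonoid.powers f) R).mp h2
    refine ⟨l + k, ?_⟩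
    have h4 : f ^ (l + k) * x = f ^ l * z := by
      rw [pow_add, mul_assoc, mul_comm (f ^ k) x]
      exact h3
    rw [h4]
    exact Ideal.mul_mem_left _ _ hz

theorem isCLoc_adicCompletion {A : Type*} [CommRing A] (I : Ideal A) (hI : I.FG) (f : A) :
    IsCLoc I f ((algebraMap (Localization.Away f)
      (AdicCompletion (I.map (algebraMap A (Localization.Away f))) (Localization.Away f))).comp
      (algebraMap A (Localization.Away f))) :=
  isCLoc_of_isLocalization I hI f

section Basic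

variable {A A' : Type*} [CommRing A] [CommRing A'] {I : Ideal A} {f : A} {a : A →+* A'}

theorem IsCLoc.isUnit_pow (h : IsCLoc I f a) (k : ℕ) : IsUnit (a f ^ k) := h.isUnit.pow k

/-- Elements can be approximated by `a x / f ^ k`. -/
theorem IsCLoc.exists_unit_mul (h : IsCLoc I f a) (n : ℕ) (y : A') :
    ∃ (x : A) (k : ℕ) (u : A'), u * a f ^ k = 1 ∧ y - u * a x ∈ (I.map a) ^ n := by
  obtain ⟨x, k, hx⟩ := h.surj n y
  obtain ⟨u, hu⟩ := (h.isUnit_pow k).exists_left_inv
  refine ⟨x, k, u, hu, ?_⟩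
  have : y - u * a x = u * (a f ^ k * y - a x) := by
    rw [mul_sub, ← mul_assoc, hu, one_mul]
  rw [this]
  exact Ideal.mul_mem_left _ _ hx

/-- Uniqueness in the universal property: ring maps out of `A'` are determined by their restriction to
`A` if the target is separated. -/
theorem IsCLoc.hom_ext (h : IsCLoc I f a) {T : Type*} [CommRing T] (J : Ideal T)
    [IsHausdorff J T] {g₁ g₂ : A' →+* T} (h₁ : I.map (g₁.comp a) ≤ J)
    (h₁₂ : g₁.comp a = g₂.comp a) : g₁ = g₂ := by
  have hpow : ∀ (g : A' →+* T), I.map (g.comp a) ≤ J → ∀ n, ∀ z ∈ (I.map a) ^ n, g z ∈ J ^ n := by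
    intro g hg n z hz
    have h3 := Ideal.mem_map_of_mem g hz
    rw [Ideal.map_pow, Ideal.map_map] at h3
    exact Ideal.pow_right_mono hg n h3
  apply RingHom.ext
  intro y
  rw [← sub_eq_zero]
  apply IsHausdorff.haus (I := J) inferInstance
  intro n
  rw [SModEq.zero, smul_eq_mul, Ideal.mul_top]
  obtain ⟨x, k, u, hu, hx⟩ := h.exists_unit_mul n y
  have e : g₁ (a f ^ k) = g₂ (a f ^ k) := by
    rw [map_pow, map_pow]
    exact congrArg (· ^ k) (RingHom.congr_fun h₁₂ f)
  have e2 : g₁ (a x) = g₂ (a x) := RingHom.congr_fun h₁₂ x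
  have hu' : g₁ u = g₂ u := by
    have h5 : g₁ u * g₁ (a f ^ k) = 1 := by rw [← map_mul, hu, map_one]
    have h6 : g₂ u * g₂ (a f ^ k) = 1 := by rw [← map_mul, hu, map_one]
    calc g₁ u = g₁ u * (g₂ u * g₂ (a f ^ k)) := by rw [h6, mul_one]
      _ = g₂ u * (g₁ u * g₁ (a f ^ k)) := by rw [e]; ring
      _ = g₂ u := by rw [h5, mul_one]
  have h7 := hpow g₁ h₁ n _ hx
  have h8 := hpow g₂ (h₁₂ ▸ h₁) n _ hx
  have h9 : g₁ y - g₂ y = g₁ (y - u * a x) - g₂ (y - u * a x) := by
    rw [map_sub, map_sub, map_mul, map_mul, e2, hu']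
    ring
  rw [h9]
  exact Ideal.sub_mem _ h7 h8

variable (I f a) in
/-- The algebra structure `A / I ^ n → A' / (I A') ^ n`. -/
noncomputable abbrev qmap (n : ℕ) : A ⧸ I ^ n →+* A' ⧸ (I.map a) ^ n :=
  Ideal.quotientMap ((I.map a) ^ n) a (by rw [← Ideal.map_le_iff_le_comap, Ideal.map_pow])

theorem IsCLoc.isLocalization (h : IsCLoc I f a) (n : ℕ) :
    letI := (qmap I a n).toAlgebra
    IsLocalization.Away (Ideal.Quotient.mk (I ^ n) f) (A' ⧸ (I.map a) ^ n) := by
  let _ := (qmap I a n).toAlgebra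
  have halg : ∀ x : A, algebraMap (A ⧸ I ^ n) (A' ⧸ (I.map a) ^ n) (Ideal.Quotient.mk _ x) =
    Ideal.Quotient.mk _ (a x) := fun x => rfl
  constructor
  refine ⟨?_, ?_, ?_⟩
  · rintro ⟨_, k, rfl⟩
    change IsUnit (algebraMap (A ⧸ I ^ n) (A' ⧸ (I.map a) ^ n) (Ideal.Quotient.mk _ f ^ k))
    rw [map_pow, halg]
    exact (h.isUnit.map _).pow k
  · intro z
    obtain ⟨y, rfl⟩ := Ideal.Quotient.mk_surjective z
    obtain ⟨x, k, hx⟩ := h.surj n y
    refine ⟨⟨Ideal.Quotient.mk _ x, ⟨Ideal.Quotient.mk _ f ^ k, k, rfl⟩⟩, ?_⟩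
    change Ideal.Quotient.mk _ y * algebraMap (A ⧸ I ^ n) (A' ⧸ (I.map a) ^ n)
      (Ideal.Quotient.mk _ f ^ k) = algebraMap _ _ (Ideal.Quotient.mk _ x)
    rw [map_pow, halg, halg, ← map_pow, ← map_mul, Ideal.Quotient.eq, mul_comm]
    exact hx
  · intro x y hxy
    obtain ⟨x, rfl⟩ := Ideal.Quotient.mk_surjective x
    obtain ⟨y, rfl⟩ := Ideal.Quotient.mk_surjective y
    rw [halg, halg, Ideal.Quotient.eq, ← map_sub] at hxy
    obtain ⟨k, hk⟩ := h.inj n _ hxy
    refine ⟨⟨Ideal.Quotient.mk _ f ^ k, k, rfl⟩, ?_⟩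
    change Ideal.Quotient.mk _ f ^ k * Ideal.Quotient.mk _ x =
      Ideal.Quotient.mk _ f ^ k * Ideal.Quotient.mk _ y
    rw [← map_pow, ← map_mul, ← map_mul, Ideal.Quotient.eq, ← mul_sub]
    exact hk

/-- Existence in the universal property. -/
theorem IsCLoc.exists_lift (h : IsCLoc I f a) {T : Type*} [CommRing T] (J : Ideal T)
    [IsAdicComplete J T] (g : A →+* T) (hg : I.map g ≤ J) (hf : IsUnit (g f)) :
    ∃ g' : A' →+* T, g'.comp a = g := by
  have hgn : ∀ n, I ^ n ≤ (J ^ n).comap g := fun n => by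
    rw [← Ideal.map_le_iff_le_comap, Ideal.map_pow]
    exact Ideal.pow_right_mono hg n
  -- the maps `A' / (I A') ^ n → T / J ^ n`
  have hex : ∀ n, ∃ φ : A' ⧸ (I.map a) ^ n →+* T ⧸ J ^ n,
      ∀ x : A, φ (Ideal.Quotient.mk _ (a x)) = Ideal.Quotient.mk _ (g x) := by
    intro n
    let _ := (qmap I a n).toAlgebra
    have hloc := h.isLocalization n
    let gn : A ⧸ I ^ n →+* T ⧸ J ^ n := Ideal.quotientMap (J ^ n) g (hgn n)
    have hunit : IsUnit (gn (Ideal.Quotient.mk (I ^ n) f)) := by
      change IsUnit (Ideal.Quotient.mk (J ^ n) (g f))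
      exact hf.map _
    refine ⟨IsLocalization.Away.lift (Ideal.Quotient.mk (I ^ n) f) hunit, fun x => ?_⟩
    exact IsLocalization.Away.lift_eq (Ideal.Quotient.mk (I ^ n) f) hunit (Ideal.Quotient.mk _ x)
  choose φ hφ using hex
  -- they determine a compatible family
  have huniq : ∀ (m n : ℕ) (hle : m ≤ n), (Ideal.Quotient.factorPow J hle).comp
      ((φ n).comp (Ideal.Quotient.mk _)) = (φ m).comp (Ideal.Quotient.mk _) := by
    intro m n hle
    -- both kill `(I A') ^ n`?  use `isLocalization n`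
    let _ := (qmap I a n).toAlgebra
    have hloc := h.isLocalization n
    have hfac : (I.map a) ^ n ≤ (I.map a) ^ m := Ideal.pow_le_pow_right hle
    have hcomp : (Ideal.Quotient.factorPow J hle).comp (φ n) =
        (φ m).comp (Ideal.Quotient.factor hfac) := by
      apply IsLocalization.ringHom_ext (Submonoid.powers (Ideal.Quotient.mk (I ^ n) f))
      apply Ideal.Quotient.ringHom_ext
      apply RingHom.ext
      intro x
      change (Ideal.Quotient.factorPow J hle) (φ n (Ideal.Quotient.mk _ (a x))) =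
        φ m (Ideal.Quotient.factor hfac (Ideal.Quotient.mk _ (a x)))
      rw [hφ]
      exact (hφ m x).symm
    rw [← RingHom.comp_assoc, hcomp]
    rfl
  refine ⟨IsAdicComplete.liftRingHom J (fun n => (φ n).comp (Ideal.Quotient.mk _))
    (fun {m n} hle => huniq m n hle), ?_⟩
  apply RingHom.ext
  intro x
  rw [← sub_eq_zero]
  apply IsHausdorff.haus (I := J) inferInstance
  intro n
  rw [SModEq.zero, smul_eq_mul, Ideal.mul_top, ← Ideal.Quotient.eq, RingHom.comp_apply,
    IsAdicComplete.mk_liftRingHom]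
  exact hφ n x

end Basic

end K24.CLoc
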