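import Groth.Agent.AdicRing.K24.RigFlat
import Mathlib.RingTheory.Flat.FaithfullyFlat.Algebra
import Mathlib.RingTheory.RingHom.FaithfullyFlat
import Mathlib.RingTheory.Localization.Integral

/-!
# Primes of completed localizations, faithful flatness, descent of rig-flatness (`S8844`)
-/

set_option autoImplicit false
universe u

namespace K24.CLocFF

open K24.Rig K24.CLoc K24.FlatAt K24.RigFlat

section Primes

variable {A A' : Type u} [CommRing A] [CommRing A'] {I : Ideal A} {f : A} {a : A →+* A'}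

/-- Primes of `A'` containing `I` are determined by their inverse images in `A`. -/
theorem eq_of_comap_eq (h : IsCLoc I f a) (P Q : Ideal A') [P.IsPrime] [Q.IsPrime]
    (hP : I.map a ≤ P) (hQ : I.map a ≤ Q) (hPQ : P.comap a = Q.comap a) : P = Q := by
  have key : ∀ (P Q : Ideal A') [P.IsPrime] [Q.IsPrime], I.map a ≤ P → I.map a ≤ Q →
      P.comap a = Q.comap a → P ≤ Q := by
    intro P Q _ _ hP hQ hPQ z hz
    obtain ⟨x, k, hx⟩ := h.surj 1 z
    rw [pow_one] at hx
    have h1 : a x ∈ P := by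
      have : a x = a f ^ k * z - (a f ^ k * z - a x) := by ring
      rw [this]
      exact P.sub_mem (P.mul_mem_left _ hz) (hP hx)
    have h2 : x ∈ Q.comap a := by rw [← hPQ]; exact h1
    have h3 : a f ^ k * z ∈ Q := by
      have : a f ^ k * z = (a f ^ k * z - a x) + a x := by ring
      rw [this]
      exact Q.add_mem (hQ hx) h2
    exact (Ideal.IsPrime.mem_or_mem inferInstance h3).resolve_left fun h4 =>
      (Ideal.IsPrime.ne_top inferInstance : Q ≠ ⊤) (Ideal.eq_top_of_isUnit_mem _ h4 (h.isUnit_pow k))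
  exact le_antisymm (key P Q hP hQ hPQ) (key Q P hQ hP hPQ.symm)

/-- A prime `n ⊇ I` of `A` with `f ∉ n` generates a prime of `A'` contracting to `n`. -/
theorem exists_prime_over (h : IsCLoc I f a) (n : Ideal A) [n.IsPrime] (hn : I ≤ n)
    (hf : f ∉ n) : (n.map a).IsPrime ∧ (n.map a).comap a = n := by
  let _ := (Ideal.quotientMap (n.map a) a Ideal.le_comap_map).toAlgebra
  have hloc := h.isLocalization_of_pow_le n 1 (by rwa [pow_one])
  have hf' : Ideal.Quotient.mk n f ≠ 0 := fun h0 => hf (Ideal.Quotient.eq_zero_iff_mem.mp h0)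
  have hle : Submonoid.powers (Ideal.Quotient.mk n f) ≤ nonZeroDivisors (A ⧸ n) :=
    powers_le_nonZeroDivisors_of_noZeroDivisors hf'
  have hdom : IsDomain (A' ⧸ n.map a) :=
    IsLocalization.isDomain_of_le_nonZeroDivisors (A' ⧸ n.map a) hle
  refine ⟨(Ideal.Quotient.isDomain_iff_prime _).mp hdom, le_antisymm ?_ Ideal.le_comap_map⟩
  intro x hx
  have h1 : algebraMap (A ⧸ n) (A' ⧸ n.map a) (Ideal.Quotient.mk n x) = 0 := by
    change Ideal.Quotient.mk _ (a x) = 0
    exact Ideal.Quotient.eq_zero_iff_mem.mpr hx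
  have h2 := IsLocalization.injective (A' ⧸ n.map a) hle
  rw [← map_zero (algebraMap (A ⧸ n) (A' ⧸ n.map a))] at h1
  exact Ideal.Quotient.eq_zero_iff_mem.mp (h2 h1)

end Primes

/-- The completed localization of a faithfully flat map is faithfully flat. -/
theorem faithfullyFlat_map {A B A' B' : Type u} [CommRing A] [CommRing B] [CommRing A']
    [CommRing B'] [IsNoetherianRing A] [IsNoetherianRing B] {I : Ideal A} {φ : A →+* B} {f : A}
    {a : A →+* A'} {b : B →+* B'} (ha : IsCLoc I f a) (hb : IsCLoc (I.map φ) (φ f) b)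
    (hφ : φ.FaithfullyFlat) (ψ : A' →+* B') (hψ : ψ.comp a = b.comp φ) : ψ.FaithfullyFlat := by
  have hflat : ψ.Flat := ha.flat_map hb hφ.flat ψ hψ
  let _ : Algebra A' B' := ψ.toAlgebra
  have _ : Module.Flat A' B' := hflat
  change Module.FaithfullyFlat A' B'
  have := ha.complete
  have hsurj := (RingHom.FaithfullyFlat.iff_flat_and_comap_surjective.mp hφ).2
  constructor
  intro m hm htop
  have hIm : I.map a ≤ m := le_of_isMaximal _ m
  have hfm : f ∉ m.comap a := fun hf => hm.ne_top (Ideal.eq_top_of_isUnit_mem _ hf ha.isUnit)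
  obtain ⟨n', hn'⟩ := hsurj ⟨m.comap a, inferInstance⟩
  have hn'' : n'.asIdeal.comap φ = m.comap a := congrArg PrimeSpectrum.asIdeal hn'
  have hIn : I.map φ ≤ n'.asIdeal := by
    rw [Ideal.map_le_iff_le_comap, hn'', ← Ideal.map_le_iff_le_comap]
    exact hIm
  have hfn : φ f ∉ n'.asIdeal := fun hf => hfm (by rw [← hn'']; exact hf)
  obtain ⟨hN1, hN2⟩ := exists_prime_over hb n'.asIdeal hIn hfn
  have hcomp : (((n'.asIdeal.map b).comap ψ).comap a) = m.comap a := by
    rw [Ideal.comap_comap, hψ, ← Ideal.comap_comap, hN2, hn'']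
  have hM : (n'.asIdeal.map b).comap ψ = m := by
    refine eq_of_comap_eq ha _ m ?_ hIm hcomp
    rw [← Ideal.map_le_iff_le_comap, Ideal.map_map, hψ, ← Ideal.map_map]
    exact Ideal.map_mono hIn
  rw [Ideal.smul_top_eq_map, Submodule.restrictScalars_eq_top_iff] at htop
  apply hN1.ne_top
  rw [eq_top_iff, ← htop, Ideal.map_le_iff_le_comap]
  exact hM.ge

/-- Descent of rig-flatness (`S8844`). -/
theorem rigFlat_descent {A B C D : Type u} [CommRing A] [CommRing B] [CommRing C] [CommRing D]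
    [IsNoetherianRing A] [IsNoetherianRing B] [IsNoetherianRing C] [IsNoetherianRing D]
    {I : Ideal A} {φ : A →+* B} {γ : A →+* C} {δ : B →+* D} {χ : C →+* D}
    (hcomm : δ.comp φ = χ.comp γ) (hγ : γ.Flat) (hδ : δ.FaithfullyFlat)
    (h : RigFlat (I.map γ) χ) : RigFlat I φ := by
  intro f A' B' _ _ a b ψ ha hb hψ q _ hq
  obtain ⟨C', _, c, hc⟩ := exists_isCLoc (I.map γ) (IsNoetherian.noetherian _) (γ f)
  obtain ⟨D', _, d, hd⟩ := exists_isCLoc ((I.map γ).map χ) (IsNoetherian.noetherian _) (χ (γ f))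
  have hI : (I.map γ).map χ = (I.map φ).map δ := by rw [Ideal.map_map, Ideal.map_map, hcomm]
  have hf : χ (γ f) = δ (φ f) := (RingHom.congr_fun hcomm f).symm
  have hd' : IsCLoc ((I.map φ).map δ) (δ (φ f)) d := by rw [← hI, ← hf]; exact hd
  have hdc := hd.complete
  obtain ⟨ac, hac⟩ := exists_map ha hc hc.isUnit
  obtain ⟨cd, hcd⟩ := exists_map hc hd hd.isUnit
  obtain ⟨bd, hbd⟩ := exists_map hb hd' hd'.isUnit
  have hsq : bd.comp ψ = cd.comp ac := by
    apply ha.hom_ext (((I.map γ).map χ).map d)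
    · rw [RingHom.comp_assoc, hψ, ← RingHom.comp_assoc, hbd, RingHom.comp_assoc, hcomm,
        ← Ideal.map_map, ← Ideal.map_map]
    · rw [RingHom.comp_assoc, hψ, ← RingHom.comp_assoc, hbd, RingHom.comp_assoc, hcomm,
        RingHom.comp_assoc, hac, ← RingHom.comp_assoc, ← RingHom.comp_assoc, hcd]
  have hbdff : bd.FaithfullyFlat := faithfullyFlat_map hb hd' hδ bd hbd
  obtain ⟨q', hq'⟩ := (RingHom.FaithfullyFlat.iff_flat_and_comap_surjective.mp hbdff).2
    ⟨q, inferInstance⟩
  have hq'' : q = q'.asIdeal.comap bd := (congrArg PrimeSpectrum.asIdeal hq').symm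
  apply FlatAt.of_comp hq'' (FlatAt.of_flat hbdff.flat _)
  rw [hsq]
  refine FlatAt.comp rfl (FlatAt.of_flat (ha.flat_map hc hγ ac hac) _)
    (h (γ f) C' D' c d cd hc hd hcd q'.asIdeal ?_)
  intro hle
  apply hq
  rw [hq'', ← Ideal.map_le_iff_le_comap, Ideal.map_map, Ideal.map_map, hsq,
    RingHom.comp_assoc, hac, ← Ideal.map_map, ← Ideal.map_map]
  exact hle

end K24.CLocFF
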