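import Groth.Agent.AdicRing.K24.CLoc
import Groth.Agent.Ega43.FlatAdic
import Groth.Agent.Ega4A.CplFlat
import Mathlib.RingTheory.AdicCompletion.Functoriality
import Mathlib.RingTheory.AdicCompletion.AsTensorProduct
import Mathlib.RingTheory.RingHom.Flat
import Mathlib.RingTheory.RingHom.FaithfullyFlat
import Mathlib.RingTheory.Flat.Localization

/-!
# Completed localizations of Noetherian rings: Noetherian, flat, quotients by `f`-invertible ideals
-/

set_option autoImplicit false
universe u

namespace K24.CLoc

section Equiv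

variable {A A' : Type*} [CommRing A] [CommRing A'] {I : Ideal A} {f : A} {a : A →+* A'}

theorem IsCLoc.bijective {A'' : Type*} [CommRing A''] {a' : A →+* A''} (h : IsCLoc I f a)
    (h' : IsCLoc I f a') (g : A' →+* A'') (hg : g.comp a = a') : Function.Bijective g := by
  have hc := h.complete
  have hc' := h'.complete
  obtain ⟨g', hg'⟩ := h'.exists_lift (I.map a) a le_rfl h.isUnit
  have h1 : g'.comp g = RingHom.id A' := by
    apply h.hom_ext (I.map a)
    · rw [RingHom.comp_assoc, hg, hg']
    · rw [RingHom.comp_assoc, hg, hg', RingHom.id_comp]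
  have h2 : g.comp g' = RingHom.id A'' := by
    apply h'.hom_ext (I.map a')
    · rw [RingHom.comp_assoc, hg', hg]
    · rw [RingHom.comp_assoc, hg', hg, RingHom.id_comp]
  exact Function.bijective_iff_has_inverse.mpr ⟨g', RingHom.congr_fun h1, RingHom.congr_fun h2⟩

theorem IsCLoc.exists_equiv {A'' : Type*} [CommRing A''] {a' : A →+* A''} (h : IsCLoc I f a)
    (h' : IsCLoc I f a') : ∃ e : A' ≃+* A'', (e : A' →+* A'').comp a = a' := by
  have hc' := h'.complete
  obtain ⟨g, hg⟩ := h.exists_lift (I.map a') a' le_rfl h'.isUnit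
  exact ⟨RingEquiv.ofBijective g (h.bijective h' g hg), hg⟩

end Equiv

section Noeth

variable {A A' : Type*} [CommRing A] [CommRing A'] {I : Ideal A} {f : A} {a : A →+* A'}

theorem IsCLoc.isNoetherianRing_quotient [IsNoetherianRing A] (h : IsCLoc I f a) (n : ℕ) :
    IsNoetherianRing (A' ⧸ (I.map a) ^ n) := by
  let _ := (qmap I a n).toAlgebra
  have := h.isLocalization n
  exact IsLocalization.isNoetherianRing (Submonoid.powers (Ideal.Quotient.mk (I ^ n) f)) _
    inferInstance

theorem IsCLoc.isNoetherianRing [IsNoetherianRing A] (h : IsCLoc I f a) : IsNoetherianRing A' := by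
  have hc := h.complete
  have h1 := h.isNoetherianRing_quotient 1
  rw [pow_one] at h1
  exact Groth.Agent.Ega4A.CompleteNoeth.isNoetherianRing_of_isAdicComplete (I.map a)
    (Ideal.FG.map (IsNoetherian.noetherian I) a)

theorem IsCLoc.le_jacobson (h : IsCLoc I f a) : I.map a ≤ Ideal.jacobson ⊥ := by
  have := h.complete
  exact IsAdicComplete.le_jacobson_bot _

end Noeth

section Flat

variable {A A' : Type u} [CommRing A] [CommRing A'] {I : Ideal A} {f : A} {a : A →+* A'}
  [IsNoetherianRing A]

/-- `A → A'` is flat. -/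
theorem IsCLoc.flat (h : IsCLoc I f a) : a.Flat := by
  obtain ⟨e, he⟩ := (isCLoc_adicCompletion I (IsNoetherian.noetherian I) f).exists_equiv h
  rw [← he]
  refine RingHom.Flat.comp (RingHom.Flat.comp ?_ ?_) ?_
  · have : Module.Flat A (Localization.Away f) :=
      IsLocalization.flat _ (Submonoid.powers f)
    exact RingHom.flat_algebraMap_iff.mpr this
  · have : Module.Flat (Localization.Away f) (AdicCompletion
      (I.map (algebraMap A (Localization.Away f))) (Localization.Away f)) := inferInstance
    exact RingHom.flat_algebraMap_iff.mpr this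
  · exact RingHom.Flat.of_bijective e.bijective

/-- If `S` is flat over `A` and an `A'`-algebra (Noetherian, with `I S` in the Jacobson radical), then
`S` is flat over `A'`. -/
theorem IsCLoc.flat_of_comp {S : Type u} [CommRing S] [IsNoetherianRing S] (h : IsCLoc I f a)
    (ψ : A' →+* S) (hj : I.map (ψ.comp a) ≤ Ideal.jacobson ⊥) (hflat : (ψ.comp a).Flat) :
    ψ.Flat := by
  have hA' : IsNoetherianRing A' := h.isNoetherianRing
  let l : Localization.Away f →+* A' := IsLocalization.Away.lift f h.isUnit
  have hl : ∀ x, l (algebraMap A _ x) = a x := fun x => IsLocalization.Away.lift_eq f h.isUnit x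
  let _ : Algebra A A' := a.toAlgebra
  let _ : Algebra (Localization.Away f) A' := l.toAlgebra
  let _ : Algebra A' S := ψ.toAlgebra
  let _ : Algebra (Localization.Away f) S := (ψ.comp l).toAlgebra
  let _ : Algebra A S := (ψ.comp a).toAlgebra
  have _ : IsScalarTower A (Localization.Away f) A' :=
    IsScalarTower.of_algebraMap_eq fun x => (hl x).symm
  have _ : IsScalarTower (Localization.Away f) A' S := IsScalarTower.of_algebraMap_eq fun x => rfl
  have _ : IsScalarTower A A' S := IsScalarTower.of_algebraMap_eq fun x => rfl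
  have _ : IsScalarTower A (Localization.Away f) S :=
    IsScalarTower.of_algebraMap_eq fun x => congrArg ψ (hl x).symm
  have hA : Module.Flat A S := hflat
  have hL : Module.Flat (Localization.Away f) S :=
    (Module.flat_iff_of_isLocalization (Localization.Away f) (Submonoid.powers f) S).mpr hA
  change Module.Flat A' S
  have hpow : ∀ n, (I.map a) ^ n = ((I ^ n).map (algebraMap A (Localization.Away f))).map
      (algebraMap (Localization.Away f) A') := by
    intro n
    rw [Ideal.map_map, ← Ideal.map_pow]
    exact congrArg (fun φ => Ideal.map φ (I ^ n)) (RingHom.ext fun x => (hl x).symm)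
  apply Groth.Agent.Ega43.FlatAdic.flat_of_forall_flat_quotient_pow (S := S) (I.map a)
  · rw [Ideal.map_map]; exact hj
  · intro n
    rw [hpow n]
    apply Groth.Agent.Ega4A.CplFlat.flat_quotient_tensor
    intro y
    obtain ⟨y, rfl⟩ := Ideal.Quotient.mk_surjective y
    obtain ⟨x, k, u, hu, hx⟩ := h.exists_unit_mul n y
    refine ⟨IsLocalization.mk' (Localization.Away f) x (⟨f ^ k, k, rfl⟩ : Submonoid.powers f), ?_⟩
    rw [hpow n] at hx
    change Ideal.Quotient.mk _ (l _) = _
    rw [eq_comm, Ideal.Quotient.eq]
    convert hx using 2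
    have h1 : l (IsLocalization.mk' (Localization.Away f) x
        (⟨f ^ k, k, rfl⟩ : Submonoid.powers f)) * a f ^ k = a x := by
      rw [← map_pow, ← hl, ← hl, ← map_mul]
      congr 1
      exact IsLocalization.mk'_spec (Localization.Away f) x
        (⟨f ^ k, k, rfl⟩ : Submonoid.powers f)
    rw [← h1, mul_comm u, mul_assoc, mul_comm _ u, hu, mul_one]

/-- The completed localization of a flat map is flat. -/
theorem IsCLoc.flat_map {B B' : Type u} [CommRing B] [CommRing B'] [IsNoetherianRing B]
    {b : B →+* B'} {φ : A →+* B} {g : B} (h : IsCLoc I f a) (h' : IsCLoc (I.map φ) g b)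
    (hφ : φ.Flat) (ψ : A' →+* B') (hψ : ψ.comp a = b.comp φ) : ψ.Flat := by
  have hB' := h'.isNoetherianRing
  apply h.flat_of_comp ψ
  · rw [hψ, ← Ideal.map_map]
    exact h'.le_jacobson
  · rw [hψ]
    exact hφ.comp h'.flat

end Flat

end K24.CLoc
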