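import Groth.Agent.AdicRing.K24.CLocFlat
import Groth.Agent.AdicRing.K24.RigDef

/-!
# Completed localization at `f`, modulo an ideal for which `f` is a unit

If `A` is Noetherian and `I`-adically complete, and `f` is a unit modulo `p`, then
`A / p ≅ A_{f} / p A_{f}`.
-/

set_option autoImplicit false
universe u

namespace K24.CLoc

open K24.Rig

section Quot

variable {A A' : Type u} [CommRing A] [CommRing A'] {I : Ideal A} {f : A} {a : A →+* A'}
  [IsNoetherianRing A]

omit [IsNoetherianRing A] in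
/-- Elements of `p A'` are approximated by elements of `p`, up to a power of `f`. -/
theorem IsCLoc.approx_of_mem_map (h : IsCLoc I f a) (p : Ideal A) (z : A') (hz : z ∈ p.map a)
    (n : ℕ) : ∃ (k : ℕ) (x : A), x ∈ p ∧ a f ^ k * z - a x ∈ (I.map a) ^ n := by
  refine Submodule.span_induction ?_ ?_ ?_ ?_ hz
  · rintro _ ⟨x, hx, rfl⟩
    exact ⟨0, x, hx, by simp⟩
  · exact ⟨0, 0, p.zero_mem, by simp⟩
  · rintro z w _ _ ⟨k, x, hx, hx'⟩ ⟨l, y, hy, hy'⟩
    refine ⟨k + l, f ^ l * x + f ^ k * y, p.add_mem (p.mul_mem_left _ hx) (p.mul_mem_left _ hy), ?_⟩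
    have : a f ^ (k + l) * (z + w) - a (f ^ l * x + f ^ k * y) =
        a f ^ l * (a f ^ k * z - a x) + a f ^ k * (a f ^ l * w - a y) := by
      simp only [map_add, map_mul, map_pow, pow_add]; ring
    rw [this]
    exact Ideal.add_mem _ (Ideal.mul_mem_left _ _ hx') (Ideal.mul_mem_left _ _ hy')
  · rintro c z _ ⟨k, x, hx, hx'⟩
    obtain ⟨c', l, hc⟩ := h.surj n c
    refine ⟨l + k, c' * x, p.mul_mem_left _ hx, ?_⟩
    have : a f ^ (l + k) * (c • z) - a (c' * x) =
        (a f ^ l * c) * (a f ^ k * z - a x) + a x * (a f ^ l * c - a c') := by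
      simp only [map_mul, pow_add, smul_eq_mul]; ring
    rw [this]
    exact Ideal.add_mem _ (Ideal.mul_mem_left _ _ hx') (Ideal.mul_mem_left _ _ hc)

variable [IsAdicComplete I A]

/-- `p` is closed. -/
theorem mem_of_forall_mem_sup_pow (p : Ideal A) (x : A) (h : ∀ n, x ∈ p ⊔ I ^ n) : x ∈ p := by
  have hh : IsHausdorff I (A ⧸ p) :=
    IsHausdorff.of_le_jacobson I (A ⧸ p) (IsAdicComplete.le_jacobson_bot I)
  rw [← Ideal.Quotient.eq_zero_iff_mem]
  apply hh.haus
  intro n
  rw [SModEq.zero]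
  obtain ⟨y, hy, z, hz, rfl⟩ := Submodule.mem_sup.mp (h n)
  rw [map_add, Ideal.Quotient.eq_zero_iff_mem.mpr hy, zero_add]
  have : Ideal.Quotient.mk p z = z • (1 : A ⧸ p) := by
    rw [Algebra.smul_def, mul_one]; rfl
  rw [this]
  exact Submodule.smul_mem_smul hz trivial

theorem IsCLoc.mem_of_map_mem (h : IsCLoc I f a) (p : Ideal A)
    (hf : IsUnit (Ideal.Quotient.mk p f)) (x : A) (hx : a x ∈ p.map a) : x ∈ p := by
  apply mem_of_forall_mem_sup_pow (I := I)
  intro n
  obtain ⟨k, y, hy, hxy⟩ := h.approx_of_mem_map p (a x) hx n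
  have h1 : a (f ^ k * x - y) ∈ (I.map a) ^ n := by
    rw [map_sub, map_mul, map_pow]; exact hxy
  obtain ⟨l, hl⟩ := h.inj n _ h1
  obtain ⟨u, hu⟩ := hf.exists_left_inv
  obtain ⟨u, rfl⟩ := Ideal.Quotient.mk_surjective u
  have hu' : u * f - 1 ∈ p := by
    rw [← Ideal.Quotient.eq_zero_iff_mem, map_sub, map_mul, hu, map_one, sub_self]
  have hpow : ∀ m : ℕ, u ^ m * f ^ m - 1 ∈ p := by
    intro m
    rw [← Ideal.Quotient.eq_zero_iff_mem, map_sub, map_mul, map_pow, map_pow, ← mul_pow, hu,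
      one_pow, map_one, sub_self]
  have h2 : f ^ (l + k) * x ∈ p ⊔ I ^ n := by
    have : f ^ (l + k) * x = f ^ l * y + f ^ l * (f ^ k * x - y) := by rw [pow_add]; ring
    rw [this]
    exact Submodule.add_mem_sup (p.mul_mem_left _ hy) hl
  have h3 : x = u ^ (l + k) * (f ^ (l + k) * x) - (u ^ (l + k) * f ^ (l + k) - 1) * x := by ring
  rw [h3]
  exact Ideal.sub_mem _ (Ideal.mul_mem_left _ _ h2)
    (Ideal.mem_sup_left (p.mul_mem_right _ (hpow _)))

theorem IsCLoc.comap_map (h : IsCLoc I f a) (p : Ideal A)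
    (hf : IsUnit (Ideal.Quotient.mk p f)) : (p.map a).comap a = p :=
  le_antisymm (fun x hx => h.mem_of_map_mem p hf x hx) Ideal.le_comap_map

theorem IsCLoc.quot_surjective (h : IsCLoc I f a) (p : Ideal A)
    (hf : IsUnit (Ideal.Quotient.mk p f)) (y : A') : ∃ x : A, y - a x ∈ p.map a := by
  have hN := h.isNoetherianRing
  let g : A →+* A' ⧸ p.map a := (Ideal.Quotient.mk (p.map a)).comp a
  have hmap : I.map g = (I.map a).map (Ideal.Quotient.mk (p.map a)) := by
    rw [Ideal.map_map]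
  have hh : IsHausdorff (I.map g) (A' ⧸ p.map a) := by
    apply IsHausdorff.of_le_jacobson
    rw [hmap]
    refine (Ideal.map_mono h.le_jacobson).trans ?_
    refine (Ideal.map_le_iff_le_comap).mpr ?_
    intro x hx
    rw [Ideal.mem_comap, Ideal.mem_jacobson_bot]
    intro y
    obtain ⟨y, rfl⟩ := Ideal.Quotient.mk_surjective y
    have h2 := (Ideal.mem_jacobson_bot.mp hx y).map (Ideal.Quotient.mk (p.map a))
    simpa using h2
  have hs : Function.Surjective g := by
    apply surjective_of_mk_map_comp_surjective (I := I) g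
    intro z
    obtain ⟨z, rfl⟩ := Ideal.Quotient.mk_surjective z
    obtain ⟨z, rfl⟩ := Ideal.Quotient.mk_surjective z
    obtain ⟨x, k, u, hu, hx⟩ := h.exists_unit_mul 1 z
    rw [pow_one] at hx
    obtain ⟨v, hv⟩ := hf.exists_left_inv
    obtain ⟨v, rfl⟩ := Ideal.Quotient.mk_surjective v
    have hv' : ∀ m : ℕ, v ^ m * f ^ m - 1 ∈ p := by
      intro m
      rw [← Ideal.Quotient.eq_zero_iff_mem, map_sub, map_mul, map_pow, map_pow, ← mul_pow, hv,
        one_pow, map_one, sub_self]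
    refine ⟨v ^ k * x, ?_⟩
    change Ideal.Quotient.mk _ (g (v ^ k * x)) = Ideal.Quotient.mk _ (Ideal.Quotient.mk _ z)
    rw [eq_comm, Ideal.Quotient.eq]
    have h1 : a (v ^ k * f ^ k - 1) ∈ p.map a := Ideal.mem_map_of_mem _ (hv' k)
    have h4 : z - a (v ^ k * x) = (z - u * a x) - (u * a x) * a (v ^ k * f ^ k - 1) := by
      simp only [map_sub, map_mul, map_pow, map_one]
      linear_combination (a v ^ k * a x) * hu
    have h5 : Ideal.Quotient.mk (p.map a) z - g (v ^ k * x) =
        Ideal.Quotient.mk (p.map a) (z - u * a x) := by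
      change Ideal.Quotient.mk (p.map a) z - Ideal.Quotient.mk (p.map a) (a (v ^ k * x)) = _
      rw [← map_sub, h4, map_sub, Ideal.Quotient.eq_zero_iff_mem.mpr (Ideal.mul_mem_left _ _ h1),
        sub_zero]
    rw [h5, hmap]
    exact Ideal.mem_map_of_mem _ hx
  obtain ⟨x, hx⟩ := hs (Ideal.Quotient.mk _ y)
  refine ⟨x, ?_⟩
  rw [← Ideal.Quotient.eq]
  exact hx.symm

theorem IsCLoc.bijective_quotientMap (h : IsCLoc I f a) (p : Ideal A)
    (hf : IsUnit (Ideal.Quotient.mk p f)) :
    Function.Bijective (Ideal.quotientMap (p.map a) a Ideal.le_comap_map) := by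
  constructor
  · rw [injective_iff_map_eq_zero]
    intro x hx
    obtain ⟨x, rfl⟩ := Ideal.Quotient.mk_surjective x
    rw [Ideal.quotientMap_mk, Ideal.Quotient.eq_zero_iff_mem] at hx
    exact Ideal.Quotient.eq_zero_iff_mem.mpr (h.mem_of_map_mem p hf x hx)
  · intro y
    obtain ⟨y, rfl⟩ := Ideal.Quotient.mk_surjective y
    obtain ⟨x, hx⟩ := h.quot_surjective p hf y
    refine ⟨Ideal.Quotient.mk _ x, ?_⟩
    rw [Ideal.quotientMap_mk, eq_comm, Ideal.Quotient.eq]
    exact hx

theorem IsCLoc.isPrime_map (h : IsCLoc I f a) (p : Ideal A) [p.IsPrime]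
    (hf : IsUnit (Ideal.Quotient.mk p f)) : (p.map a).IsPrime := by
  rw [← Ideal.Quotient.isDomain_iff_prime]
  exact (RingEquiv.ofBijective _ (h.bijective_quotientMap p hf)).symm.toMulEquiv.isDomain (A ⧸ p)

/-- Rig-closed primes on which `f` is invertible stay rig-closed. -/
theorem IsCLoc.rigClosed_map (h : IsCLoc I f a) (q : PrimeSpectrum A) (hq : RigClosed I q)
    (hf : IsUnit (Ideal.Quotient.mk q.asIdeal f)) (q' : PrimeSpectrum A')
    (hq' : q'.asIdeal = q.asIdeal.map a) : RigClosed (I.map a) q' := by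
  constructor
  · rw [hq', Ideal.map_le_iff_le_comap, h.comap_map _ hf]
    exact hq.1
  · intro y hy hyI
    have h1 : q.asIdeal ≤ (PrimeSpectrum.comap a y).asIdeal := by
      rw [← h.comap_map q.asIdeal hf, ← hq']
      exact Ideal.comap_mono hy
    have h2 := hq.2 (PrimeSpectrum.comap a y) h1 (fun hle => hyI (Ideal.map_le_iff_le_comap.mpr hle))
    have h3 : (y.asIdeal).comap a = q.asIdeal := congrArg PrimeSpectrum.asIdeal h2
    apply PrimeSpectrum.ext
    refine le_antisymm ?_ hy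
    intro z hz
    obtain ⟨x, hx⟩ := h.quot_surjective q.asIdeal hf z
    rw [← hq'] at hx
    have h4 : a x ∈ y.asIdeal := by
      have : a x = z - (z - a x) := by ring
      rw [this]
      exact Ideal.sub_mem _ hz (hy hx)
    have h5 : x ∈ q.asIdeal := by rw [← h3]; exact h4
    have h6 : a x ∈ q'.asIdeal := by rw [hq']; exact Ideal.mem_map_of_mem _ h5
    have : z = (z - a x) + a x := by ring
    rw [this]
    exact Ideal.add_mem _ hx h6

end Quot

end K24.CLoc
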