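import Groth.Agent.AdicRing.K24.RigFlat
import Mathlib.RingTheory.TensorProduct.Basic
import Mathlib.RingTheory.TensorProduct.Maps

/-!
# Compositions of completed localizations, and completed tensor products
-/

set_option autoImplicit false
universe u

namespace K24.CLocTens

open K24.CLoc TensorProduct

section Comp

variable {T D D₂ : Type*} [CommRing T] [CommRing D] [CommRing D₂] {J : Ideal T} {g g' : T}
  {κ : T →+* D} {d : D →+* D₂}

/-- A completed localization of a completed localization. -/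
theorem comp (h : IsCLoc J g κ) (h' : IsCLoc (J.map κ) (κ g') d) :
    IsCLoc J (g * g') (d.comp κ) := by
  have e : J.map (d.comp κ) = (J.map κ).map d := (Ideal.map_map κ d).symm
  refine ⟨?_, ?_, ?_, ?_⟩
  · rw [e]; exact h'.complete
  · rw [map_mul]
    exact (h.isUnit.map d).mul h'.isUnit
  · intro n y
    obtain ⟨z, k, hz⟩ := h'.surj n y
    obtain ⟨x, l, hx⟩ := h.surj n z
    refine ⟨g' ^ l * g ^ k * x, k + l, ?_⟩
    rw [e]
    have hx' : d (κ g ^ l * z - κ x) ∈ ((J.map κ).map d) ^ n := by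
      rw [← Ideal.map_pow]
      exact Ideal.mem_map_of_mem d hx
    have h1 : (d.comp κ) (g * g') ^ (k + l) * y - (d.comp κ) (g' ^ l * g ^ k * x) =
        (d (κ g') ^ l * d (κ g) ^ (k + l)) * (d (κ g') ^ k * y - d z) +
          (d (κ g') ^ l * d (κ g) ^ k) * d (κ g ^ l * z - κ x) := by
      simp only [RingHom.comp_apply, map_mul, map_pow, map_sub, pow_add]
      ring
    rw [h1]
    exact Ideal.add_mem _ (Ideal.mul_mem_left _ _ hz) (Ideal.mul_mem_left _ _ hx')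
  · intro n x hx
    rw [e] at hx
    obtain ⟨k, hk⟩ := h'.inj n _ hx
    have h1 : κ (g' ^ k * x) ∈ (J.map κ) ^ n := by
      rw [map_mul, map_pow]; exact hk
    obtain ⟨l, hl⟩ := h.inj n _ h1
    refine ⟨k + l, ?_⟩
    have h2 : (g * g') ^ (k + l) * x = (g ^ k * g' ^ l) * (g ^ l * (g' ^ k * x)) := by
      rw [mul_pow, pow_add, pow_add]; ring
    rw [h2]
    exact Ideal.mul_mem_left _ _ hl

/-- The element may be replaced by an equal one. -/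
theorem congr_elem {g₁ : T} (h : IsCLoc J g κ) (e : g = g₁) : IsCLoc J g₁ κ := e ▸ h

end Comp

section Tensor

variable {A B C A₂ B₂ C₂ D₂ : Type u} [CommRing A] [CommRing B] [CommRing C] [CommRing A₂]
  [CommRing B₂] [CommRing C₂] [CommRing D₂] [Algebra A B] [Algebra A C] [Algebra A₂ B₂]
  [Algebra A₂ C₂] [Algebra A₂ D₂] {I : Ideal A} {a : A →+* A₂} {b : B →+* B₂} {c : C →+* C₂}
  (gC : C) (gB : B)

/-- `C₂ ⊗ B₂ → D₂` is a completion when `C ⊗ B → D₂`, `C → C₂`, `B → B₂` are completed localizations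
at `gC ⊗ 1`, `gC`, `gB` where `gB` is the image of `f ∈ A` dividing `gC`. -/
theorem isCLoc_tensor (hb : IsCLoc (I.map (algebraMap A B)) gB b)
    (hc : IsCLoc (I.map (algebraMap A C)) gC c)
    (χ₂ : C₂ →ₐ[A₂] D₂) (δ₂ : B₂ →ₐ[A₂] D₂)
    (θ : C ⊗[A] B →+* D₂)
    (hθC : ∀ x : C, θ (x ⊗ₜ 1) = χ₂ (c x)) (hθB : ∀ y : B, θ (1 ⊗ₜ y) = δ₂ (b y))
    (hθ : IsCLoc (I.map (algebraMap A (C ⊗[A] B))) (gC ⊗ₜ 1) θ)
    (hca : ∀ x : A, c (algebraMap A C x) = algebraMap A₂ C₂ (a x))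
    (hba : ∀ x : A, b (algebraMap A B x) = algebraMap A₂ B₂ (a x))
    (f : A) (hgB : gB = algebraMap A B f) (h : C) (hgC : gC = h * algebraMap A C f) :
    IsCLoc ((I.map a).map (algebraMap A₂ (C₂ ⊗[A₂] B₂))) 1
      (Algebra.TensorProduct.lift χ₂ δ₂ (fun _ _ => Commute.all _ _)).toRingHom := by
  set τ : C₂ ⊗[A₂] B₂ →ₐ[A₂] D₂ := Algebra.TensorProduct.lift χ₂ δ₂ (fun _ _ => Commute.all _ _)
    with hτ
  have hτt : ∀ (x : C₂) (y : B₂), τ (x ⊗ₜ y) = χ₂ x * δ₂ y := fun x y =>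
    Algebra.TensorProduct.lift_tmul _ _ _ x y
  -- the map `μ : C ⊗ B → C₂ ⊗ B₂`
  let _ : Algebra A (C₂ ⊗[A₂] B₂) := ((algebraMap A₂ (C₂ ⊗[A₂] B₂)).comp a).toAlgebra
  have hAalg : ∀ x : A, algebraMap A (C₂ ⊗[A₂] B₂) x = algebraMap A₂ (C₂ ⊗[A₂] B₂) (a x) :=
    fun x => rfl
  let μC : C →ₐ[A] C₂ ⊗[A₂] B₂ :=
    { (Algebra.TensorProduct.includeLeft : C₂ →ₐ[A₂] C₂ ⊗[A₂] B₂).toRingHom.comp c with
      commutes' := fun x => by
        change (c (algebraMap A C x)) ⊗ₜ[A₂] (1 : B₂) = _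
        rw [hca, hAalg]
        rfl }
  let μB : B →ₐ[A] C₂ ⊗[A₂] B₂ :=
    { (Algebra.TensorProduct.includeRight : B₂ →ₐ[A₂] C₂ ⊗[A₂] B₂).toRingHom.comp b with
      commutes' := fun x => by
        change (1 : C₂) ⊗ₜ[A₂] (b (algebraMap A B x)) = _
        rw [hba, hAalg, ← Algebra.TensorProduct.tmul_one_eq_one_tmul]
        rfl }
  let μ : C ⊗[A] B →ₐ[A] C₂ ⊗[A₂] B₂ :=
    Algebra.TensorProduct.lift μC μB (fun _ _ => Commute.all _ _)
  have hμt : ∀ (x : C) (y : B), μ (x ⊗ₜ y) = c x ⊗ₜ b y := by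
    intro x y
    have h1 : μ (x ⊗ₜ y) = μC x * μB y := Algebra.TensorProduct.lift_tmul _ _ _ x y
    rw [h1]
    change (c x ⊗ₜ[A₂] (1 : B₂)) * ((1 : C₂) ⊗ₜ[A₂] b y) = _
    rw [Algebra.TensorProduct.tmul_mul_tmul, mul_one, one_mul]
  have hτμ : ∀ w : C ⊗[A] B, τ (μ w) = θ w := by
    intro w
    induction w with
    | zero => rw [map_zero, map_zero, map_zero]
    | add x y hx hy => rw [map_add, map_add, map_add, hx, hy]
    | tmul x y =>
      rw [hμt, hτt, ← hθC, ← hθB, ← map_mul, Algebra.TensorProduct.tmul_mul_tmul, mul_one,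
        one_mul]
  -- ideals
  set J₂ : Ideal (C₂ ⊗[A₂] B₂) := (I.map a).map (algebraMap A₂ (C₂ ⊗[A₂] B₂)) with hJ₂
  have hμJ : ∀ n, ∀ w ∈ (I.map (algebraMap A (C ⊗[A] B))) ^ n, μ w ∈ J₂ ^ n := by
    intro n w hw
    have h1 := Ideal.mem_map_of_mem μ.toRingHom hw
    rw [Ideal.map_pow, Ideal.map_map] at h1
    have h2 : (μ.toRingHom).comp (algebraMap A (C ⊗[A] B)) =
        (algebraMap A₂ (C₂ ⊗[A₂] B₂)).comp a := by
      ext x
      exact μ.commutes x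
    rw [h2, ← Ideal.map_map] at h1
    exact h1
  have hD : J₂.map τ.toRingHom = (I.map (algebraMap A (C ⊗[A] B))).map θ := by
    rw [hJ₂, Ideal.map_map, Ideal.map_map, Ideal.map_map]
    congr 1
    ext x
    have h1 : τ (μ (algebraMap A (C ⊗[A] B) x)) = θ (algebraMap A (C ⊗[A] B) x) := hτμ _
    rw [μ.commutes, hAalg] at h1
    exact h1
  -- units in `C₂ ⊗ B₂`
  set G : C₂ ⊗[A₂] B₂ := μ (gC ⊗ₜ 1) with hG
  have hGu : IsUnit G := by
    rw [hG, hμt, map_one]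
    exact hc.isUnit.map (Algebra.TensorProduct.includeLeft : C₂ →ₐ[A₂] C₂ ⊗[A₂] B₂)
  have hGf : G = μ (h ⊗ₜ 1) * μ (1 ⊗ₜ gB) := by
    rw [hG, ← map_mul, Algebra.TensorProduct.tmul_mul_tmul, mul_one, one_mul]
    congr 1
    rw [hgC, hgB]
    have h1 : (1 : C) ⊗ₜ[A] (algebraMap A B f) = (algebraMap A C f) ⊗ₜ[A] (1 : B) :=
      (Algebra.TensorProduct.tmul_one_eq_one_tmul f).symm
    have h2 : h ⊗ₜ[A] (algebraMap A B f) = (h ⊗ₜ[A] (1 : B)) * ((1 : C) ⊗ₜ[A] (algebraMap A B f)) := by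
      rw [Algebra.TensorProduct.tmul_mul_tmul, mul_one, one_mul]
    rw [h2, h1, Algebra.TensorProduct.tmul_mul_tmul, mul_one]
  -- approximation of elements of `C₂ ⊗ B₂`
  have happ : ∀ (n : ℕ) (x : C₂ ⊗[A₂] B₂), ∃ (k : ℕ) (w : C ⊗[A] B), G ^ k * x - μ w ∈ J₂ ^ n := by
    intro n x
    induction x with
    | zero => exact ⟨0, 0, by simp⟩
    | add x y hx hy =>
      obtain ⟨k, w, hw⟩ := hx
      obtain ⟨l, v, hv⟩ := hy
      refine ⟨k + l, (gC ⊗ₜ 1) ^ l * w + (gC ⊗ₜ 1) ^ k * v, ?_⟩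
      have e : G ^ (k + l) * (x + y) - μ ((gC ⊗ₜ 1) ^ l * w + (gC ⊗ₜ 1) ^ k * v) =
          G ^ l * (G ^ k * x - μ w) + G ^ k * (G ^ l * y - μ v) := by
        rw [map_add, map_mul, map_mul, map_pow, map_pow, ← hG, pow_add]; ring
      rw [e]
      exact Ideal.add_mem _ (Ideal.mul_mem_left _ _ hw) (Ideal.mul_mem_left _ _ hv)
    | tmul x y =>
      obtain ⟨x₀, k, hx⟩ := hc.surj n x
      obtain ⟨y₀, l, hy⟩ := hb.surj n y
      have hxJ : (c gC ^ k * x - c x₀) ⊗ₜ[A₂] (1 : B₂) ∈ J₂ ^ n := by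
        have h1 := Ideal.mem_map_of_mem
          (Algebra.TensorProduct.includeLeft : C₂ →ₐ[A₂] C₂ ⊗[A₂] B₂).toRingHom hx
        rw [Ideal.map_pow, Ideal.map_map, Ideal.map_map] at h1
        have h2 : ((Algebra.TensorProduct.includeLeft : C₂ →ₐ[A₂] C₂ ⊗[A₂] B₂).toRingHom.comp
            (c.comp (algebraMap A C))) = (algebraMap A₂ (C₂ ⊗[A₂] B₂)).comp a := by
          ext z
          change (c (algebraMap A C z)) ⊗ₜ[A₂] (1 : B₂) = _
          rw [hca]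
          rfl
        rw [RingHom.comp_assoc, h2, ← Ideal.map_map] at h1
        exact h1
      have hyJ : (1 : C₂) ⊗ₜ[A₂] (b gB ^ l * y - b y₀) ∈ J₂ ^ n := by
        have h1 := Ideal.mem_map_of_mem
          (Algebra.TensorProduct.includeRight : B₂ →ₐ[A₂] C₂ ⊗[A₂] B₂).toRingHom hy
        rw [Ideal.map_pow, Ideal.map_map, Ideal.map_map] at h1
        have h2 : ((Algebra.TensorProduct.includeRight : B₂ →ₐ[A₂] C₂ ⊗[A₂] B₂).toRingHom.comp
            (b.comp (algebraMap A B))) = (algebraMap A₂ (C₂ ⊗[A₂] B₂)).comp a := by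
          ext z
          change (1 : C₂) ⊗ₜ[A₂] (b (algebraMap A B z)) = _
          rw [hba, ← Algebra.TensorProduct.tmul_one_eq_one_tmul]
          rfl
        rw [RingHom.comp_assoc, h2, ← Ideal.map_map] at h1
        exact h1
      refine ⟨k + l, (h ⊗ₜ 1) ^ l * (x₀ ⊗ₜ y₀), ?_⟩
      have hμh : μ (1 ⊗ₜ gB) = (1 : C₂) ⊗ₜ[A₂] b gB := by rw [hμt, map_one]
      have hμg : G = c gC ⊗ₜ[A₂] (1 : B₂) := by rw [hG, hμt, map_one]
      have e1 : x ⊗ₜ[A₂] y = (x ⊗ₜ[A₂] (1 : B₂)) * ((1 : C₂) ⊗ₜ[A₂] y) := by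
        rw [Algebra.TensorProduct.tmul_mul_tmul, mul_one, one_mul]
      have e2 : (c gC ^ k * x - c x₀) ⊗ₜ[A₂] (1 : B₂) =
          G ^ k * (x ⊗ₜ[A₂] (1 : B₂)) - c x₀ ⊗ₜ[A₂] (1 : B₂) := by
        rw [hμg, TensorProduct.sub_tmul, Algebra.TensorProduct.tmul_pow, one_pow,
          Algebra.TensorProduct.tmul_mul_tmul, mul_one]
      have e3 : (1 : C₂) ⊗ₜ[A₂] (b gB ^ l * y - b y₀) =
          (μ (1 ⊗ₜ gB)) ^ l * ((1 : C₂) ⊗ₜ[A₂] y) - (1 : C₂) ⊗ₜ[A₂] b y₀ := by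
        rw [hμh, TensorProduct.tmul_sub, Algebra.TensorProduct.tmul_pow, one_pow,
          Algebra.TensorProduct.tmul_mul_tmul, mul_one]
      have e4 : μ ((h ⊗ₜ 1) ^ l * (x₀ ⊗ₜ y₀)) = (μ (h ⊗ₜ 1)) ^ l *
          ((c x₀ ⊗ₜ[A₂] (1 : B₂)) * ((1 : C₂) ⊗ₜ[A₂] b y₀)) := by
        rw [map_mul, map_pow, hμt x₀ y₀, Algebra.TensorProduct.tmul_mul_tmul, mul_one, one_mul]
      have e5 : G ^ (k + l) * (x ⊗ₜ[A₂] y) - μ ((h ⊗ₜ 1) ^ l * (x₀ ⊗ₜ y₀)) =
          (G ^ l * ((1 : C₂) ⊗ₜ[A₂] y)) * ((c gC ^ k * x - c x₀) ⊗ₜ[A₂] (1 : B₂)) +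
          ((μ (h ⊗ₜ 1)) ^ l * (c x₀ ⊗ₜ[A₂] (1 : B₂))) *
            ((1 : C₂) ⊗ₜ[A₂] (b gB ^ l * y - b y₀)) := by
        rw [e2, e3, e4, e1]
        have e6 : G ^ l = (μ (h ⊗ₜ 1)) ^ l * (μ (1 ⊗ₜ gB)) ^ l := by rw [hGf, mul_pow]
        rw [pow_add]
        linear_combination (((1 : C₂) ⊗ₜ[A₂] y) * (c x₀ ⊗ₜ[A₂] (1 : B₂))) * e6
      rw [e5]
      exact Ideal.add_mem _ (Ideal.mul_mem_left _ _ hxJ) (Ideal.mul_mem_left _ _ hyJ)
  refine ⟨?_, ?_, ?_, ?_⟩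
  · rw [hD]; exact hθ.complete
  · rw [map_one]; exact isUnit_one
  · intro n y
    obtain ⟨w, k, u, hu, hw⟩ := hθ.exists_unit_mul n y
    obtain ⟨v, hv⟩ := (hGu.pow k).exists_left_inv
    refine ⟨v * μ w, 0, ?_⟩
    rw [pow_zero, one_mul, hD]
    have h1 : τ v = u := by
      have h2 : τ v * θ (gC ⊗ₜ 1) ^ k = 1 := by
        rw [← hτμ, ← map_pow, ← map_mul, ← hG, hv, map_one]
      calc τ v = τ v * (u * θ (gC ⊗ₜ 1) ^ k) := by rw [hu, mul_one]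
        _ = (τ v * θ (gC ⊗ₜ 1) ^ k) * u := by ring
        _ = u := by rw [h2, one_mul]
    change y - τ (v * μ w) ∈ _
    rw [map_mul, hτμ, h1]
    exact hw
  · intro n x hx
    refine ⟨0, ?_⟩
    rw [pow_zero, one_mul]
    obtain ⟨k, w, hw⟩ := happ n x
    have hτw : θ w ∈ ((I.map (algebraMap A (C ⊗[A] B))).map θ) ^ n := by
      rw [← hD, ← hτμ]
      have h1 : τ (G ^ k * x - μ w) ∈ (J₂.map τ.toRingHom) ^ n := by
        rw [← Ideal.map_pow]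
        exact Ideal.mem_map_of_mem τ.toRingHom hw
      have h2 : τ (μ w) = τ G ^ k * τ x - τ (G ^ k * x - μ w) := by
        rw [map_sub, map_mul, map_pow]; ring
      rw [h2]
      exact Ideal.sub_mem _ (Ideal.mul_mem_left _ _ hx) h1
    obtain ⟨l, hl⟩ := hθ.inj n w hτw
    have h3 : G ^ l * μ w ∈ J₂ ^ n := by
      have := hμJ n _ hl
      rwa [map_mul, map_pow, ← hG] at this
    have h4 : G ^ (k + l) * x ∈ J₂ ^ n := by
      have : G ^ (k + l) * x = G ^ l * (G ^ k * x - μ w) + G ^ l * μ w := by rw [pow_add]; ring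
      rw [this]
      exact Ideal.add_mem _ (Ideal.mul_mem_left _ _ hw) h3
    exact (Ideal.unit_mul_mem_iff_mem _ (hGu.pow (k + l))).mp h4

end Tensor

end K24.CLocTens
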