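import Groth.Agent.AdicRing.K24.CLocQuot
import Mathlib.RingTheory.RingHom.FiniteType
import Mathlib.RingTheory.RingHom.Etale
import Mathlib.RingTheory.Etale.Basic
import Mathlib.RingTheory.Jacobson.Ring

/-!
# Adic maps topologically of finite type between Noetherian adic rings, as ring homs
-/

set_option autoImplicit false
universe u

namespace K24.Tft

open K24.Rig K24.CLoc

/-- `φ : A → B` is adic, topologically of finite type, with `B` Noetherian and `I B`-adically
complete. -/
structure TFT {A B : Type*} [CommRing A] [CommRing B] (I : Ideal A) (φ : A →+* B) : Prop where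
  noeth : IsNoetherianRing B
  complete : IsAdicComplete (I.map φ) B
  ft : ((Ideal.Quotient.mk (I.map φ)).comp φ).FiniteType

theorem tft_algebraMap {A B : Type*} [CommRing A] [CommRing B] [Algebra A B] (I : Ideal A)
    [IsNoetherianRing B] [IsAdicComplete (I.map (algebraMap A B)) B]
    (hft : Algebra.FiniteType A (B ⧸ I.map (algebraMap A B))) : TFT I (algebraMap A B) :=
  ⟨inferInstance, inferInstance, RingHom.finiteType_algebraMap.mpr hft⟩

section

variable {A A' : Type u} [CommRing A] [CommRing A'] {I : Ideal A} {f : A} {a : A →+* A'}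

/-- For any ideal `K` containing a power of `I`, `A'/K A'` is the localization of `A/K` at `f`. -/
theorem _root_.K24.CLoc.IsCLoc.isLocalization_of_pow_le (h : IsCLoc I f a) (K : Ideal A) (n : ℕ)
    (hK : I ^ n ≤ K) :
    letI := (Ideal.quotientMap (K.map a) a Ideal.le_comap_map).toAlgebra
    IsLocalization.Away (Ideal.Quotient.mk K f) (A' ⧸ K.map a) := by
  let _ := (Ideal.quotientMap (K.map a) a Ideal.le_comap_map).toAlgebra
  have halg : ∀ x : A, algebraMap (A ⧸ K) (A' ⧸ K.map a) (Ideal.Quotient.mk _ x) =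
    Ideal.Quotient.mk _ (a x) := fun x => rfl
  have hK' : (I.map a) ^ n ≤ K.map a := by
    rw [← Ideal.map_pow]; exact Ideal.map_mono hK
  constructor
  refine ⟨?_, ?_, ?_⟩
  · rintro ⟨_, k, rfl⟩
    change IsUnit (algebraMap (A ⧸ K) (A' ⧸ K.map a) (Ideal.Quotient.mk _ f ^ k))
    rw [map_pow, halg]
    exact (h.isUnit.map _).pow k
  · intro z
    obtain ⟨y, rfl⟩ := Ideal.Quotient.mk_surjective z
    obtain ⟨x, k, hx⟩ := h.surj n y
    refine ⟨⟨Ideal.Quotient.mk _ x, ⟨Ideal.Quotient.mk _ f ^ k, k, rfl⟩⟩, ?_⟩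
    change Ideal.Quotient.mk _ y * algebraMap (A ⧸ K) (A' ⧸ K.map a)
      (Ideal.Quotient.mk _ f ^ k) = algebraMap _ _ (Ideal.Quotient.mk _ x)
    rw [map_pow, halg, halg, ← map_pow, ← map_mul, Ideal.Quotient.eq, mul_comm]
    exact hK' hx
  · intro x y hxy
    obtain ⟨x, rfl⟩ := Ideal.Quotient.mk_surjective x
    obtain ⟨y, rfl⟩ := Ideal.Quotient.mk_surjective y
    rw [halg, halg, Ideal.Quotient.eq, ← map_sub] at hxy
    obtain ⟨k, w, hw, hk⟩ := h.approx_of_mem_map K _ hxy n
    have h1 : a (f ^ k * (x - y) - w) ∈ (I.map a) ^ n := by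
      rw [map_sub, map_mul, map_pow]; exact hk
    obtain ⟨l, hl⟩ := h.inj n _ h1
    refine ⟨⟨Ideal.Quotient.mk _ f ^ (l + k), l + k, rfl⟩, ?_⟩
    change Ideal.Quotient.mk _ f ^ (l + k) * Ideal.Quotient.mk _ x =
      Ideal.Quotient.mk _ f ^ (l + k) * Ideal.Quotient.mk _ y
    rw [← map_pow, ← map_mul, ← map_mul, Ideal.Quotient.eq, ← mul_sub]
    have h2 : f ^ (l + k) * (x - y) = f ^ l * (f ^ k * (x - y) - w) + f ^ l * w := by
      rw [pow_add]; ring
    rw [h2]
    exact K.add_mem (hK hl) (K.mul_mem_left _ hw)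

/-- The reduction `A/I → A'/I A'` of a completed localization is a localization. -/
theorem _root_.K24.CLoc.IsCLoc.isLocalization_red (h : IsCLoc I f a) :
    letI := (Ideal.quotientMap (I.map a) a Ideal.le_comap_map).toAlgebra
    IsLocalization.Away (Ideal.Quotient.mk I f) (A' ⧸ I.map a) :=
  h.isLocalization_of_pow_le I 1 (by rw [pow_one])

theorem _root_.K24.CLoc.IsCLoc.ft_red (h : IsCLoc I f a) :
    (Ideal.quotientMap (I.map a) a Ideal.le_comap_map).FiniteType := by
  let _ := (Ideal.quotientMap (I.map a) a Ideal.le_comap_map).toAlgebra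
  have := h.isLocalization_red
  exact IsLocalization.finiteType_of_monoid_fg (Submonoid.powers (Ideal.Quotient.mk I f)) _

theorem _root_.K24.CLoc.IsCLoc.etale_red (h : IsCLoc I f a) :
    (Ideal.quotientMap (I.map a) a Ideal.le_comap_map).Etale := by
  let _ := (Ideal.quotientMap (I.map a) a Ideal.le_comap_map).toAlgebra
  have := h.isLocalization_red
  exact Algebra.Etale.of_isLocalizationAway (Ideal.Quotient.mk I f)

end

section Comp

variable {A B C : Type*} [CommRing A] [CommRing B] [CommRing C] {I : Ideal A} {φ : A →+* B}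
  {ψ : B →+* C}

theorem TFT.comp (h : TFT I φ) (h' : TFT (I.map φ) ψ) : TFT I (ψ.comp φ) := by
  refine ⟨h'.noeth, ?_, ?_⟩
  · rw [← Ideal.map_map]; exact h'.complete
  · have h1 := h.ft
    -- `B/IB → C/IC` is of finite type
    let ρ : B ⧸ I.map φ →+* C ⧸ I.map (ψ.comp φ) :=
      Ideal.quotientMap (I.map (ψ.comp φ)) ψ (by
        rw [← Ideal.map_map]; exact Ideal.le_comap_map)
    have hρ : ρ.FiniteType := by
      have h2 : (ρ.comp (Ideal.Quotient.mk (I.map φ))).FiniteType := by
        have h3 := h'.ft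
        have e : ρ.comp (Ideal.Quotient.mk (I.map φ)) =
          ((Ideal.quotEquivOfEq (Ideal.map_map φ ψ)).toRingHom).comp
            ((Ideal.Quotient.mk ((I.map φ).map ψ)).comp ψ) := by
          ext x; rfl
        rw [e]
        exact RingHom.FiniteType.comp (RingHom.FiniteType.of_surjective _
          (Ideal.quotEquivOfEq (Ideal.map_map φ ψ)).surjective) h3
      exact RingHom.FiniteType.of_comp_finiteType h2
    have e : (Ideal.Quotient.mk (I.map (ψ.comp φ))).comp (ψ.comp φ) =
        ρ.comp ((Ideal.Quotient.mk (I.map φ)).comp φ) := by ext x; rfl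
    rw [e]
    exact hρ.comp h1

/-- If `A → C` is topologically of finite type, so is `B → C`. -/
theorem TFT.of_comp (h : TFT I (ψ.comp φ)) : TFT (I.map φ) ψ := by
  refine ⟨h.noeth, ?_, ?_⟩
  · rw [Ideal.map_map]; exact h.complete
  · have h3 := h.ft
    have e : (((Ideal.Quotient.mk ((I.map φ).map ψ)).comp ψ).comp φ) =
        ((Ideal.quotEquivOfEq (Ideal.map_map φ ψ).symm).toRingHom).comp
          ((Ideal.Quotient.mk (I.map (ψ.comp φ))).comp (ψ.comp φ)) := by
      ext x; rfl
    have h4 : (((Ideal.Quotient.mk ((I.map φ).map ψ)).comp ψ).comp φ).FiniteType := by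
      rw [e]
      exact RingHom.FiniteType.comp (RingHom.FiniteType.of_surjective _
          (Ideal.quotEquivOfEq (Ideal.map_map φ ψ).symm).surjective) h3
    exact RingHom.FiniteType.of_comp_finiteType h4

theorem _root_.K24.CLoc.IsCLoc.tft {A A' : Type u} [CommRing A] [CommRing A'] [IsNoetherianRing A]
    {I : Ideal A} {f : A} {a : A →+* A'} (h : IsCLoc I f a) : TFT I a := by
  refine ⟨h.isNoetherianRing, h.complete, ?_⟩
  have e : (Ideal.Quotient.mk (I.map a)).comp a =
    (Ideal.quotientMap (I.map a) a Ideal.le_comap_map).comp (Ideal.Quotient.mk I) := by ext x; rfl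
  rw [e]
  exact h.ft_red.comp (RingHom.FiniteType.of_surjective _ Ideal.Quotient.mk_surjective)

end Comp

end K24.Tft
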