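import Groth.Agent.AdicRing.K24.CLocQuot
import Groth.Agent.AdicRing.K24.TftDef
import Groth.Agent.FormalA.AdicFin
import Mathlib.RingTheory.AdicCompletion.Functoriality
import Mathlib.RingTheory.Finiteness.NilpotentKer
import Mathlib.RingTheory.Localization.AtPrime.Basic

/-!
# Completions modulo ideals with complete quotient; primes with finite residue ring
-/

set_option autoImplicit false
universe u

namespace K24.CplQuot

open K24.Rig K24.CLoc

/-- The completion of a ring is a completed localization at `1`. -/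
theorem isCLoc_completion {R : Type*} [CommRing R] (J : Ideal R) (hJ : J.FG) :
    IsCLoc J 1 (algebraMap R (AdicCompletion J R)) := by
  constructor
  · exact isAdicComplete_map J hJ
  · simp
  · intro n y
    obtain ⟨z, hz⟩ := Ideal.Quotient.mk_surjective (AdicCompletion.evalₐ J n y)
    refine ⟨z, 0, ?_⟩
    have h1 : AdicCompletion.evalₐ J n (algebraMap R (AdicCompletion J R) z) =
        Ideal.Quotient.mk (J ^ n) z := AdicCompletion.evalₐ_of J n z
    rw [mem_pow_map_iff J hJ, pow_zero, one_mul, map_sub, ← hz, h1, sub_self]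
  · intro n x hx
    rw [mem_pow_map_iff J hJ] at hx
    have h1 : AdicCompletion.evalₐ J n (algebraMap R (AdicCompletion J R) x) =
        Ideal.Quotient.mk (J ^ n) x := AdicCompletion.evalₐ_of J n x
    rw [h1, Ideal.Quotient.eq_zero_iff_mem] at hx
    exact ⟨0, by simpa using hx⟩

section Quot

variable {R R' : Type u} [CommRing R] [CommRing R'] {J : Ideal R} {f : R} {a : R →+* R'}

/-- If `R / K` is `J`-adically separated then `K` is closed. -/
theorem mem_of_forall_mem_sup_pow' (K : Ideal R) [hh : IsHausdorff J (R ⧸ K)] (x : R)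
    (h : ∀ n, x ∈ K ⊔ J ^ n) : x ∈ K := by
  rw [← Ideal.Quotient.eq_zero_iff_mem]
  apply hh.haus
  intro n
  rw [SModEq.zero]
  obtain ⟨y, hy, z, hz, rfl⟩ := Submodule.mem_sup.mp (h n)
  rw [map_add, Ideal.Quotient.eq_zero_iff_mem.mpr hy, zero_add]
  have : Ideal.Quotient.mk K z = z • (1 : R ⧸ K) := by
    rw [Algebra.smul_def, mul_one]; rfl
  rw [this]
  exact Submodule.smul_mem_smul hz trivial

theorem mem_of_map_mem (h : IsCLoc J f a) (K : Ideal R) [IsHausdorff J (R ⧸ K)]
    (hf : IsUnit (Ideal.Quotient.mk K f)) (x : R) (hx : a x ∈ K.map a) : x ∈ K := by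
  apply mem_of_forall_mem_sup_pow' (J := J)
  intro n
  obtain ⟨k, y, hy, hxy⟩ := h.approx_of_mem_map K (a x) hx n
  have h1 : a (f ^ k * x - y) ∈ (J.map a) ^ n := by
    rw [map_sub, map_mul, map_pow]; exact hxy
  obtain ⟨l, hl⟩ := h.inj n _ h1
  obtain ⟨u, hu⟩ := hf.exists_left_inv
  obtain ⟨u, rfl⟩ := Ideal.Quotient.mk_surjective u
  have hpow : ∀ m : ℕ, u ^ m * f ^ m - 1 ∈ K := by
    intro m
    rw [← Ideal.Quotient.eq_zero_iff_mem, map_sub, map_mul, map_pow, map_pow, ← mul_pow, hu,
      one_pow, map_one, sub_self]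
  have h2 : f ^ (l + k) * x ∈ K ⊔ J ^ n := by
    have : f ^ (l + k) * x = f ^ l * y + f ^ l * (f ^ k * x - y) := by rw [pow_add]; ring
    rw [this]
    exact Submodule.add_mem_sup (K.mul_mem_left _ hy) hl
  have h3 : x = u ^ (l + k) * (f ^ (l + k) * x) - (u ^ (l + k) * f ^ (l + k) - 1) * x := by ring
  rw [h3]
  exact Ideal.sub_mem _ (Ideal.mul_mem_left _ _ h2)
    (Ideal.mem_sup_left (K.mul_mem_right _ (hpow _)))

theorem quot_surjective [IsNoetherianRing R] (h : IsCLoc J f a) (K : Ideal R)
    [IsPrecomplete J (R ⧸ K)] (hf : IsUnit (Ideal.Quotient.mk K f)) (y : R') :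
    ∃ x : R, y - a x ∈ K.map a := by
  have hN := h.isNoetherianRing
  let _ : Algebra R R' := a.toAlgebra
  have hh : IsHausdorff (J.map a) (R' ⧸ K.map a) :=
    IsHausdorff.of_le_jacobson _ _ h.le_jacobson
  have hh' : IsHausdorff J (R' ⧸ K.map a) := IsHausdorff.map_algebraMap_iff.mp hh
  let g : (R ⧸ K) →ₗ[R] (R' ⧸ K.map a) :=
    (Submodule.liftQ K ((Submodule.mkQ (K.map a)).restrictScalars R ∘ₗ
      (Algebra.linearMap R R')) (fun x hx => by
        rw [LinearMap.mem_ker]
        exact Ideal.Quotient.eq_zero_iff_mem.mpr (Ideal.mem_map_of_mem a hx)))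
  have hg : ∀ x : R, g (Ideal.Quotient.mk K x) = Ideal.Quotient.mk (K.map a) (a x) := fun x => rfl
  have hs : Function.Surjective g := by
    apply surjective_of_mkQ_comp_surjective (I := J)
    intro z
    obtain ⟨z, rfl⟩ := Submodule.mkQ_surjective _ z
    obtain ⟨z, rfl⟩ := Ideal.Quotient.mk_surjective z
    obtain ⟨x, k, u, hu, hx⟩ := h.exists_unit_mul 1 z
    rw [pow_one] at hx
    obtain ⟨v, hv⟩ := hf.exists_left_inv
    obtain ⟨v, rfl⟩ := Ideal.Quotient.mk_surjective v
    have hv' : ∀ m : ℕ, v ^ m * f ^ m - 1 ∈ K := by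
      intro m
      rw [← Ideal.Quotient.eq_zero_iff_mem, map_sub, map_mul, map_pow, map_pow, ← mul_pow, hv,
        one_pow, map_one, sub_self]
    refine ⟨Ideal.Quotient.mk K (v ^ k * x), ?_⟩
    rw [LinearMap.comp_apply, hg, eq_comm, Submodule.mkQ_apply, Submodule.mkQ_apply,
      Submodule.Quotient.eq, ← map_sub]
    have h1 : a (v ^ k * f ^ k - 1) ∈ K.map a := Ideal.mem_map_of_mem _ (hv' k)
    have h4 : z - a (v ^ k * x) = (z - u * a x) - (u * a x) * a (v ^ k * f ^ k - 1) := by
      simp only [map_sub, map_mul, map_pow, map_one]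
      linear_combination (a v ^ k * a x) * hu
    have h5 : Ideal.Quotient.mk (K.map a) (z - a (v ^ k * x)) =
        Ideal.Quotient.mk (K.map a) (z - u * a x) := by
      rw [h4, map_sub, Ideal.Quotient.eq_zero_iff_mem.mpr (Ideal.mul_mem_left _ _ h1), sub_zero]
    rw [h5]
    have h6 : Ideal.Quotient.mk (K.map a) (z - u * a x) ∈
        (J • ⊤ : Submodule R (R' ⧸ K.map a)) := by
      have h7 : ((Submodule.mkQ (K.map a)).restrictScalars R) (z - u * a x) ∈
          (J • ⊤ : Submodule R R').map ((Submodule.mkQ (K.map a)).restrictScalars R) := by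
        apply Submodule.mem_map_of_mem
        rw [Ideal.smul_top_eq_map]
        exact hx
      rw [Submodule.map_smul''] at h7
      exact Submodule.smul_mono le_rfl le_top h7
    exact h6
  obtain ⟨x, hx⟩ := hs (Ideal.Quotient.mk _ y)
  obtain ⟨x, rfl⟩ := Ideal.Quotient.mk_surjective x
  refine ⟨x, ?_⟩
  rw [← Ideal.Quotient.eq, ← hx]
  exact hg x

end Quot

section Finite

variable {A P P' : Type u} [CommRing A] [IsNoetherianRing A] {I : Ideal A} [IsAdicComplete I A]
  [CommRing P] [IsNoetherianRing P] [CommRing P'] {π : A →+* P} {κ : P →+* P'}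

omit [IsNoetherianRing P] in
/-- If `P / K` is finite over the `I`-adically complete Noetherian ring `A`, it is complete. -/
theorem isAdicComplete_quot (K : Ideal P) (hfin : ((Ideal.Quotient.mk K).comp π).Finite) :
    IsAdicComplete (I.map π) (P ⧸ K) := by
  let _ : Algebra A P := π.toAlgebra
  have : Module.Finite A (P ⧸ K) := hfin
  have h1 : IsAdicComplete I (P ⧸ K) := Groth.Agent.FormalA.AdicFin.isAdicComplete_of_finite I
  exact (IsAdicComplete.map_algebraMap_iff _ _).mpr h1

omit [IsNoetherianRing A] [IsNoetherianRing P] in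
/-- Let `κ : P → P'` be the `I`-adic completion and `q` a prime of `P'` with `P' / q` finite over `A`.
Then every element of `P'` is congruent modulo `q` to an element of `P`. -/
theorem exists_sub_mem (h : IsCLoc (I.map π) 1 κ) (q : Ideal P')
    (hfin : ((Ideal.Quotient.mk q).comp (κ.comp π)).Finite) (y : P') : ∃ x : P, y - κ x ∈ q := by
  let _ : Algebra A P' := (κ.comp π).toAlgebra
  have hf : Module.Finite A (P' ⧸ q) := hfin
  -- the image of `P`
  let N : Submodule A (P' ⧸ q) :=
    { carrier := Set.range fun x : P => Ideal.Quotient.mk q (κ x)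
      add_mem' := by
        rintro _ _ ⟨x, rfl⟩ ⟨y, rfl⟩
        exact ⟨x + y, by simp⟩
      zero_mem' := ⟨0, by simp⟩
      smul_mem' := by
        rintro c _ ⟨x, rfl⟩
        refine ⟨π c * x, ?_⟩
        change Ideal.Quotient.mk q (κ (π c * x)) = c • Ideal.Quotient.mk q (κ x)
        rw [map_mul, map_mul, Algebra.smul_def]
        rfl }
  have hN : (⊤ : Submodule A (P' ⧸ q)) ≤ N ⊔ I • ⊤ := by
    intro z _
    obtain ⟨z, rfl⟩ := Ideal.Quotient.mk_surjective z
    obtain ⟨x, k, hx⟩ := h.surj 1 z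
    rw [map_one, one_pow, one_mul, pow_one, Ideal.map_map] at hx
    have e : Ideal.Quotient.mk q z = Ideal.Quotient.mk q (κ x) + Ideal.Quotient.mk q (z - κ x) := by
      rw [← map_add]; congr 1; ring
    rw [e]
    refine Submodule.add_mem_sup ⟨x, rfl⟩ ?_
    have h7 : (Ideal.Quotient.mkₐ A q).toLinearMap (z - κ x) ∈
        (I • ⊤ : Submodule A P').map (Ideal.Quotient.mkₐ A q).toLinearMap := by
      apply Submodule.mem_map_of_mem
      rw [Ideal.smul_top_eq_map]
      exact hx
    rw [Submodule.map_smul''] at h7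
    exact Submodule.smul_mono le_rfl le_top h7
  have htop := Submodule.le_of_le_smul_of_le_jacobson_bot Module.Finite.fg_top
    (IsAdicComplete.le_jacobson_bot I) hN
  obtain ⟨x, hx⟩ := htop (x := Ideal.Quotient.mk q y) trivial
  exact ⟨x, by rw [← Ideal.Quotient.eq]; exact hx.symm⟩

omit [IsNoetherianRing P] in
theorem finite_comap_quot (q : Ideal P') (hfin : ((Ideal.Quotient.mk q).comp (κ.comp π)).Finite) :
    ((Ideal.Quotient.mk (q.comap κ)).comp π).Finite := by
  let _ : Algebra A P := π.toAlgebra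
  let _ : Algebra A P' := (κ.comp π).toAlgebra
  have hf : Module.Finite A (P' ⧸ q) := hfin
  let g : (P ⧸ q.comap κ) →+* (P' ⧸ q) := Ideal.quotientMap q κ le_rfl
  have hg : Function.Injective g := Ideal.quotientMap_injective
  change Module.Finite A (P ⧸ q.comap κ)
  let gl : (P ⧸ q.comap κ) →ₗ[A] (P' ⧸ q) :=
    { toFun := g
      map_add' := map_add g
      map_smul' := by
        intro c x
        obtain ⟨x, rfl⟩ := Ideal.Quotient.mk_surjective x
        rw [RingHom.id_apply, Algebra.smul_def, Algebra.smul_def, map_mul]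
        rfl }
  exact Module.Finite.of_injective gl hg

/-- `q = (q ∩ P) P'`. -/
theorem map_comap_eq (h : IsCLoc (I.map π) 1 κ) (q : Ideal P')
    (hfin : ((Ideal.Quotient.mk q).comp (κ.comp π)).Finite) : (q.comap κ).map κ = q := by
  refine le_antisymm Ideal.map_comap_le ?_
  have hfin' := finite_comap_quot (κ := κ) q hfin
  have hc := isAdicComplete_quot (I := I) (q.comap κ) hfin'
  intro y hy
  obtain ⟨x, hx⟩ := quot_surjective h (q.comap κ) (by rw [map_one]; exact isUnit_one) y
  have h1 : κ x ∈ q := by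
    have : κ x = y - (y - κ x) := by ring
    rw [this]
    exact q.sub_mem hy (Ideal.map_comap_le hx)
  have : y = (y - κ x) + κ x := by ring
  rw [this]
  exact Ideal.add_mem _ hx (Ideal.mem_map_of_mem κ h1)

omit [IsNoetherianRing A] in
theorem finite_pow_quot (K : Ideal P) (hfin : ((Ideal.Quotient.mk K).comp π).Finite) (m : ℕ) :
    ((Ideal.Quotient.mk (K ^ m)).comp π).Finite := by
  let _ : Algebra A P := π.toAlgebra
  rcases Nat.eq_zero_or_pos m with rfl | hm
  · rw [pow_zero, Ideal.one_eq_top]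
    have : Subsingleton (P ⧸ (⊤ : Ideal P)) := inferInstance
    change Module.Finite A (P ⧸ (⊤ : Ideal P))
    infer_instance
  have hf : Module.Finite A (P ⧸ K) := hfin
  have hle : K ^ m ≤ K := Ideal.pow_le_self hm.ne'
  change Module.Finite A (P ⧸ K ^ m)
  refine Module.finite_of_surjective_of_ker_le_nilradical (Ideal.Quotient.factorₐ A hle)
    (Ideal.Quotient.factor_surjective hle) ?_ (IsNoetherian.noetherian _)
  intro x hx
  obtain ⟨x, rfl⟩ := Ideal.Quotient.mk_surjective x
  have hxq : x ∈ K := by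
    have : Ideal.Quotient.mk K x = 0 := hx
    exact Ideal.Quotient.eq_zero_iff_mem.mp this
  refine ⟨m, ?_⟩
  rw [← map_pow]
  exact Ideal.Quotient.eq_zero_iff_mem.mpr (Ideal.pow_mem_pow hxq m)

/-- Modulo powers of `q`, `P` and `P'` agree. -/
theorem pow_quot (h : IsCLoc (I.map π) 1 κ) (q : Ideal P')
    (hfin : ((Ideal.Quotient.mk q).comp (κ.comp π)).Finite) (m : ℕ) :
    (∀ x : P, κ x ∈ q ^ m → x ∈ (q.comap κ) ^ m) ∧ ∀ y : P', ∃ x : P, y - κ x ∈ q ^ m := by
  have hfin' := finite_pow_quot _ (finite_comap_quot (κ := κ) q hfin) m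
  have hc := isAdicComplete_quot (I := I) ((q.comap κ) ^ m) hfin'
  have e : ((q.comap κ) ^ m).map κ = q ^ m := by rw [Ideal.map_pow, map_comap_eq h q hfin]
  constructor
  · intro x hx
    rw [← e] at hx
    exact mem_of_map_mem h _ (by rw [map_one]; exact isUnit_one) x hx
  · intro y
    rw [← e]
    exact quot_surjective h _ (by rw [map_one]; exact isUnit_one) y

end Finite

/-- The completion of a finite type algebra is topologically of finite type. -/
theorem tft_completion {A P P' : Type u} [CommRing A] [CommRing P] [IsNoetherianRing P]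
    [CommRing P'] {I : Ideal A} {π : A →+* P} {κ : P →+* P'} (hπ : π.FiniteType)
    (h : IsCLoc (I.map π) 1 κ) : K24.Tft.TFT I (κ.comp π) := by
  refine ⟨h.isNoetherianRing, ?_, ?_⟩
  · rw [← Ideal.map_map]; exact h.complete
  · rw [← RingHom.comp_assoc]
    refine RingHom.FiniteType.comp (RingHom.FiniteType.of_surjective _ ?_) hπ
    intro z
    obtain ⟨z, rfl⟩ := Ideal.Quotient.mk_surjective z
    obtain ⟨x, k, hx⟩ := h.surj 1 z
    rw [map_one, one_pow, one_mul, pow_one, Ideal.map_map] at hx
    refine ⟨x, ?_⟩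
    rw [RingHom.comp_apply, eq_comm, Ideal.Quotient.eq]
    exact hx

section Local

variable {P P' : Type u} [CommRing P] [CommRing P'] (κ : P →+* P') (q : Ideal P') [q.IsPrime]

/-- The maps `P_{q'} → P'_q` modulo powers of the maximal ideals. -/
theorem localRingHom_pow (q' : Ideal P) [q'.IsPrime] (hq' : q' = q.comap κ) (m : ℕ) (hm : 1 ≤ m)
    (h1 : ∀ x : P, κ x ∈ q ^ m → x ∈ q' ^ m) (h2 : ∀ y : P', ∃ x : P, y - κ x ∈ q ^ m) :
    (∀ x : Localization.AtPrime q', Localization.localRingHom q' q κ hq' x ∈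
      (IsLocalRing.maximalIdeal (Localization.AtPrime q)) ^ m →
        x ∈ (IsLocalRing.maximalIdeal (Localization.AtPrime q')) ^ m) ∧
    (∀ y : Localization.AtPrime q, ∃ x : Localization.AtPrime q',
      y - Localization.localRingHom q' q κ hq' x ∈
        (IsLocalRing.maximalIdeal (Localization.AtPrime q)) ^ m) := by
  have hmq : q ^ m ≤ q := Ideal.pow_le_self (by omega)
  have hM : (IsLocalRing.maximalIdeal (Localization.AtPrime q)) ^ m =
      (q ^ m).map (algebraMap P' (Localization.AtPrime q)) := by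
    rw [Ideal.map_pow, Localization.AtPrime.map_eq_maximalIdeal]
  have hM' : (IsLocalRing.maximalIdeal (Localization.AtPrime q')) ^ m =
      (q' ^ m).map (algebraMap P (Localization.AtPrime q')) := by
    rw [Ideal.map_pow, Localization.AtPrime.map_eq_maximalIdeal]
  -- approximate denominators
  have hden : ∀ t : P', t ∉ q → ∃ t₀ : P, t₀ ∉ q' ∧ t - κ t₀ ∈ q ^ m := by
    intro t ht
    obtain ⟨t₀, ht₀⟩ := h2 t
    refine ⟨t₀, fun hmem => ht ?_, ht₀⟩
    rw [hq'] at hmem
    have : t = (t - κ t₀) + κ t₀ := by ring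
    rw [this]
    exact q.add_mem (hmq ht₀) hmem
  rw [hM, hM']
  constructor
  · intro x hx
    obtain ⟨u, ⟨s, hs⟩, rfl⟩ := IsLocalization.exists_mk'_eq q'.primeCompl x
    have hu : algebraMap P' (Localization.AtPrime q) (κ u) ∈
        (q ^ m).map (algebraMap P' (Localization.AtPrime q)) := by
      have h3 := Ideal.mul_mem_left _ (algebraMap P' (Localization.AtPrime q) (κ s)) hx
      rw [← Localization.localRingHom_to_map q' q κ hq' s, ← map_mul,
        mul_comm (algebraMap P (Localization.AtPrime q') s)] at h3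
      have h4 := IsLocalization.mk'_spec (Localization.AtPrime q') u (⟨s, hs⟩ : q'.primeCompl)
      rw [h4, Localization.localRingHom_to_map] at h3
      exact h3
    rw [IsLocalization.mem_map_algebraMap_iff q.primeCompl] at hu
    obtain ⟨⟨⟨z, hz⟩, ⟨t, ht⟩⟩, h5⟩ := hu
    rw [← map_mul] at h5
    obtain ⟨⟨r, hr⟩, h6⟩ := (IsLocalization.eq_iff_exists q.primeCompl _).mp h5
    obtain ⟨w, hw, hw'⟩ := hden (r * t) (fun hmem =>
      (Ideal.IsPrime.mem_or_mem inferInstance hmem).elim hr ht)
    have h7 : κ (w * u) ∈ q ^ m := by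
      have : κ (w * u) = r * (κ u * t) - (r * t - κ w) * κ u := by rw [map_mul]; ring
      rw [this]
      refine Ideal.sub_mem _ ?_ (Ideal.mul_mem_right _ _ hw')
      have h8 : r * (κ u * t) = r * z := h6
      rw [h8]
      exact Ideal.mul_mem_left _ _ hz
    have h9 := h1 _ h7
    rw [IsLocalization.mk'_mem_map_algebraMap_iff]
    exact ⟨w, hw, h9⟩
  · intro y
    obtain ⟨v, ⟨t, ht⟩, rfl⟩ := IsLocalization.exists_mk'_eq q.primeCompl y
    obtain ⟨v₀, hv₀⟩ := h2 v
    obtain ⟨t₀, ht₀, htt⟩ := hden t ht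
    refine ⟨IsLocalization.mk' _ v₀ (⟨t₀, ht₀⟩ : q'.primeCompl), ?_⟩
    have hκt : κ t₀ ∉ q := fun hmem => ht₀ (by rw [hq']; exact hmem)
    have hunit : IsUnit (algebraMap P' (Localization.AtPrime q) (t * κ t₀)) :=
      IsLocalization.map_units _ (⟨t * κ t₀, fun hmem =>
        (Ideal.IsPrime.mem_or_mem inferInstance hmem).elim ht hκt⟩ : q.primeCompl)
    rw [← Ideal.unit_mul_mem_iff_mem _ hunit]
    have h3 := IsLocalization.mk'_spec (Localization.AtPrime q) v (⟨t, ht⟩ : q.primeCompl)
    have h4 := congrArg (Localization.localRingHom q' q κ hq')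
      (IsLocalization.mk'_spec (Localization.AtPrime q') v₀ (⟨t₀, ht₀⟩ : q'.primeCompl))
    rw [map_mul, Localization.localRingHom_to_map, Localization.localRingHom_to_map] at h4
    have h5 : algebraMap P' (Localization.AtPrime q) (t * κ t₀) *
        (IsLocalization.mk' (Localization.AtPrime q) v (⟨t, ht⟩ : q.primeCompl) -
          Localization.localRingHom q' q κ hq'
            (IsLocalization.mk' (Localization.AtPrime q') v₀ (⟨t₀, ht₀⟩ : q'.primeCompl))) =
        algebraMap P' (Localization.AtPrime q) (v * κ t₀ - t * κ v₀) := by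
      rw [map_mul, map_sub, map_mul, map_mul, ← h3, ← h4]
      ring
    rw [h5]
    apply Ideal.mem_map_of_mem
    have : v * κ t₀ - t * κ v₀ = (v - κ v₀) * t - v * (t - κ t₀) := by ring
    rw [this]
    exact Ideal.sub_mem _ (Ideal.mul_mem_right _ _ hv₀) (Ideal.mul_mem_left _ _ htt)

end Local

end K24.CplQuot
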