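import Groth.Agent.FlatA.LocalCriterion
import Groth.Agent.FlatA.FibreCrit2
import Mathlib.RingTheory.RingHom.Flat
import Mathlib.RingTheory.RingHom.FaithfullyFlat
import Mathlib.RingTheory.Flat.Localization
import Mathlib.RingTheory.Localization.AtPrime.Basic
import Mathlib.RingTheory.Spectrum.Prime.Basic

/-!
# Flatness of a ring map at a prime

`FlatAt φ q`: for `φ : R →+* S` and a prime `q` of `S`, the local ring `S_q` is flat over `R`.
-/

set_option autoImplicit false
set_option linter.dupNamespace false
universe u

namespace K24.FlatAt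

/-- `S_q` is flat over `R`. -/
def FlatAt {R S : Type*} [CommRing R] [CommRing S] (φ : R →+* S) (q : Ideal S) [q.IsPrime] : Prop :=
  ((algebraMap S (Localization.AtPrime q)).comp φ).Flat

section

variable {R S T : Type u} [CommRing R] [CommRing S] [CommRing T]

theorem of_flat {φ : R →+* S} (h : φ.Flat) (q : Ideal S) [q.IsPrime] : FlatAt φ q := by
  have : Module.Flat S (Localization.AtPrime q) := inferInstance
  exact h.comp (RingHom.flat_algebraMap_iff.mpr this)

/-- Flatness at `q` may be checked on the map of local rings. -/
theorem iff_localRingHom (φ : R →+* S) (q : Ideal S) [q.IsPrime] (p : Ideal R) [p.IsPrime]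
    (hp : p = q.comap φ) : FlatAt φ q ↔ (Localization.localRingHom p q φ hp).Flat := by
  let _ : Algebra (Localization.AtPrime p) (Localization.AtPrime q) :=
    (Localization.localRingHom p q φ hp).toAlgebra
  let _ : Algebra R (Localization.AtPrime q) :=
    ((algebraMap S (Localization.AtPrime q)).comp φ).toAlgebra
  have _ : IsScalarTower R (Localization.AtPrime p) (Localization.AtPrime q) :=
    IsScalarTower.of_algebraMap_eq fun x => (Localization.localRingHom_to_map p q φ hp x).symm
  exact (Module.flat_iff_of_isLocalization (Localization.AtPrime p) p.primeCompl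
    (Localization.AtPrime q)).symm

/-- Flatness at `q` implies flatness at smaller primes. -/
theorem mono {φ : R →+* S} {q q₀ : Ideal S} [q.IsPrime] [q₀.IsPrime] (hle : q₀ ≤ q)
    (h : FlatAt φ q) : FlatAt φ q₀ := by
  have hu : ∀ y : q.primeCompl, IsUnit (algebraMap S (Localization.AtPrime q₀) y) := fun y =>
    IsLocalization.map_units (Localization.AtPrime q₀)
      (⟨y.1, fun hy => y.2 (hle hy)⟩ : q₀.primeCompl)
  let g : Localization.AtPrime q →+* Localization.AtPrime q₀ := IsLocalization.lift hu
  have hg : g.comp (algebraMap S (Localization.AtPrime q)) =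
      algebraMap S (Localization.AtPrime q₀) := IsLocalization.lift_comp hu
  have hgf : g.Flat := by
    let _ : Algebra (Localization.AtPrime q) (Localization.AtPrime q₀) := g.toAlgebra
    have _ : IsScalarTower S (Localization.AtPrime q) (Localization.AtPrime q₀) :=
      IsScalarTower.of_algebraMap_eq fun x => (RingHom.congr_fun hg x).symm
    exact (Module.flat_iff_of_isLocalization (Localization.AtPrime q) q.primeCompl
      (Localization.AtPrime q₀)).mpr inferInstance
  have h1 : (algebraMap S (Localization.AtPrime q₀)).comp φ =
      g.comp ((algebraMap S (Localization.AtPrime q)).comp φ) := by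
    rw [← RingHom.comp_assoc, hg]
  rw [FlatAt, h1]
  exact RingHom.Flat.comp h hgf

/-- Composition. -/
theorem comp {φ : R →+* S} {ψ : S →+* T} {q : Ideal T} [q.IsPrime] {q' : Ideal S} [q'.IsPrime]
    (hq : q' = q.comap ψ) (h : FlatAt φ q') (h' : FlatAt ψ q) : FlatAt (ψ.comp φ) q := by
  rw [iff_localRingHom ψ q q' hq] at h'
  have h1 : (algebraMap T (Localization.AtPrime q)).comp (ψ.comp φ) =
      (Localization.localRingHom q' q ψ hq).comp ((algebraMap S (Localization.AtPrime q')).comp φ) := by
    ext x
    simp [Localization.localRingHom_to_map]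
  rw [FlatAt, h1]
  exact RingHom.Flat.comp h h'

/-- Descent along a map flat at `q`. -/
theorem of_comp {φ : R →+* S} {ψ : S →+* T} {q : Ideal T} [q.IsPrime] {q' : Ideal S} [q'.IsPrime]
    (hq : q' = q.comap ψ) (h' : FlatAt ψ q) (h : FlatAt (ψ.comp φ) q) : FlatAt φ q' := by
  rw [iff_localRingHom ψ q q' hq] at h'
  let _ : Algebra (Localization.AtPrime q') (Localization.AtPrime q) :=
    (Localization.localRingHom q' q ψ hq).toAlgebra
  have _ : Module.Flat (Localization.AtPrime q') (Localization.AtPrime q) := h'
  have _ : IsLocalHom (algebraMap (Localization.AtPrime q') (Localization.AtPrime q)) :=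
    Localization.isLocalHom_localRingHom q' q ψ hq
  have _ : Module.FaithfullyFlat (Localization.AtPrime q') (Localization.AtPrime q) :=
    Module.FaithfullyFlat.of_flat_of_isLocalHom
  let _ : Algebra R (Localization.AtPrime q') :=
    ((algebraMap S (Localization.AtPrime q')).comp φ).toAlgebra
  let _ : Algebra R (Localization.AtPrime q) :=
    ((algebraMap T (Localization.AtPrime q)).comp (ψ.comp φ)).toAlgebra
  have _ : IsScalarTower R (Localization.AtPrime q') (Localization.AtPrime q) :=
    IsScalarTower.of_algebraMap_eq fun x =>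
      (Localization.localRingHom_to_map q' q ψ hq (φ x)).symm
  have _ : Module.Flat R (Localization.AtPrime q) := h
  change Module.Flat R (Localization.AtPrime q')
  exact Groth.Agent.FlatA.FibreCrit2.flat_of_flat_of_faithfullyFlat (S := Localization.AtPrime q')
    (M := Localization.AtPrime q)

/-- Local version of the key criterion: `R → S → M` with `M` flat over `R`, finite over a Noetherian
ring `B` over `S`, and `m_R S = m_S`. -/
theorem module_flat_of_map_maximalIdeal {R S B M : Type u} [CommRing R] [CommRing S] [CommRing B]
    [AddCommGroup M] [IsLocalRing R] [IsLocalRing S] [IsNoetherianRing S] [IsNoetherianRing B]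
    [Algebra R S] [Algebra S B] [Module R M] [Module S M] [Module B M] [IsScalarTower R S M]
    [IsScalarTower S B M] [Module.Finite B M]
    (hm : (IsLocalRing.maximalIdeal R).map (algebraMap R S) = IsLocalRing.maximalIdeal S)
    (hB : (IsLocalRing.maximalIdeal S).map (algebraMap S B) ≤ Ideal.jacobson ⊥)
    [Module.Flat R M] : Module.Flat S M := by
  have h1 := Groth.Agent.FlatA.FibreCrit2.rTensor_map_subtype_injective (R := R) (S := S) (M := M)
    (IsLocalRing.maximalIdeal R)
  rw [hm] at h1
  let _ : Field (S ⧸ IsLocalRing.maximalIdeal S) := Ideal.Quotient.field _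
  exact Groth.Agent.FlatA.LocalCriterion.flat_of_injective_of_flat_quotient (B := B)
    (IsLocalRing.maximalIdeal S) hB h1 inferInstance

/-- The key criterion: `φ : R → S`, `ψ : S → T`, `q` a prime of `T` with inverse images `q'` in `S` and
`p` in `R`.  If `p S_{q'}` is the maximal ideal of `S_{q'}` and `T_q` is flat over `R`, then `T_q` is
flat over `S`. -/
theorem of_map_eq_maximalIdeal [IsNoetherianRing S] [IsNoetherianRing T] {φ : R →+* S}
    {ψ : S →+* T} {q : Ideal T} [q.IsPrime] {q' : Ideal S} [q'.IsPrime] (hq : q' = q.comap ψ)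
    (hmax : ((q'.comap φ).map φ).map (algebraMap S (Localization.AtPrime q')) =
      IsLocalRing.maximalIdeal (Localization.AtPrime q'))
    (h : FlatAt (ψ.comp φ) q) : FlatAt ψ q := by
  rw [iff_localRingHom ψ q q' hq]
  have hpp : (q'.comap φ).IsPrime := inferInstance
  have hp : q'.comap φ = q.comap (ψ.comp φ) := by rw [hq, Ideal.comap_comap]
  rw [iff_localRingHom (ψ.comp φ) q (q'.comap φ) hp] at h
  let r : Localization.AtPrime (q'.comap φ) →+* Localization.AtPrime q' :=
    Localization.localRingHom (q'.comap φ) q' φ rfl
  let s : Localization.AtPrime q' →+* Localization.AtPrime q :=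
    Localization.localRingHom q' q ψ hq
  have hrs : Localization.localRingHom (q'.comap φ) q (ψ.comp φ) hp = s.comp r :=
    Localization.localRingHom_comp _ q' q φ rfl ψ hq
  rw [hrs] at h
  let _ : Algebra (Localization.AtPrime (q'.comap φ)) (Localization.AtPrime q') := r.toAlgebra
  let _ : Algebra (Localization.AtPrime q') (Localization.AtPrime q) := s.toAlgebra
  let _ : Algebra (Localization.AtPrime (q'.comap φ)) (Localization.AtPrime q) :=
    (s.comp r).toAlgebra
  have _ : IsScalarTower (Localization.AtPrime (q'.comap φ)) (Localization.AtPrime q')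
    (Localization.AtPrime q) := IsScalarTower.of_algebraMap_eq fun x => rfl
  have _ : Module.Flat (Localization.AtPrime (q'.comap φ)) (Localization.AtPrime q) := h
  have _ : IsNoetherianRing (Localization.AtPrime q') :=
    IsLocalization.isNoetherianRing q'.primeCompl _ inferInstance
  have _ : IsNoetherianRing (Localization.AtPrime q) :=
    IsLocalization.isNoetherianRing q.primeCompl _ inferInstance
  have hloc : IsLocalHom s := Localization.isLocalHom_localRingHom q' q ψ hq
  change Module.Flat (Localization.AtPrime q') (Localization.AtPrime q)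
  apply module_flat_of_map_maximalIdeal (R := Localization.AtPrime (q'.comap φ))
    (B := Localization.AtPrime q)
  · rw [← Localization.AtPrime.map_eq_maximalIdeal, Ideal.map_map, ← hmax, Ideal.map_map]
    congr 1
    ext x
    exact Localization.localRingHom_to_map (q'.comap φ) q' φ rfl x
  · refine le_trans ?_ (IsLocalRing.maximalIdeal_le_jacobson ⊥)
    exact ((IsLocalRing.local_hom_TFAE s).out 0 2).mp hloc

end

/-- `φ : R →+* S` is flat at every prime of `S` not containing the extension of `J`. -/
def NRF {R S : Type*} [CommRing R] [CommRing S] (J : Ideal R) (φ : R →+* S) : Prop :=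
  ∀ (q : Ideal S) [q.IsPrime], ¬ J.map φ ≤ q → FlatAt φ q

section NRF

variable {R S T : Type u} [CommRing R] [CommRing S] [CommRing T]

theorem NRF.of_flat {J : Ideal R} {φ : R →+* S} (h : φ.Flat) : NRF J φ := fun q _ _ =>
  FlatAt.of_flat h q

theorem NRF.comp {J : Ideal R} {φ : R →+* S} {ψ : S →+* T} (h : NRF J φ) (h' : NRF (J.map φ) ψ) :
    NRF J (ψ.comp φ) := by
  intro q _ hq
  rw [← Ideal.map_map] at hq
  exact FlatAt.comp rfl (h (q.comap ψ) fun hle => hq (Ideal.map_le_iff_le_comap.mpr hle)) (h' q hq)

end NRF

end K24.FlatAt
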