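import Groth.Agent.AdicRing.K24.FlatAt
import Mathlib.RingTheory.Localization.Ideal
import Mathlib.RingTheory.Localization.BaseChange
import Mathlib.RingTheory.TensorProduct.Basic
import Mathlib.RingTheory.Flat.Stability
import Mathlib.RingTheory.TensorProduct.Quotient

/-!
# Base change and quotients for flatness at a prime
-/

set_option autoImplicit false
universe u

namespace K24.FlatBC

open K24.FlatAt TensorProduct

section BC

variable {A B C : Type u} [CommRing A] [CommRing B] [CommRing C] [Algebra A B] [Algebra A C]

/-- Flatness at a prime is stable under base change. -/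
theorem flatAt_baseChange (q : Ideal (C ⊗[A] B)) [q.IsPrime]
    (h : FlatAt (algebraMap A B)
      (q.comap (Algebra.TensorProduct.includeRight : B →ₐ[A] C ⊗[A] B).toRingHom)) :
    FlatAt (algebraMap C (C ⊗[A] B)) q := by
  set ι : B →ₐ[A] C ⊗[A] B := Algebra.TensorProduct.includeRight with hι
  set p : Ideal B := q.comap ι.toRingHom with hp
  set M : Submonoid B := p.primeCompl with hM
  have hflat : Module.Flat A (Localization.AtPrime p) := by
    have h1 : ((algebraMap B (Localization.AtPrime p)).comp (algebraMap A B)).Flat := h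
    rw [← IsScalarTower.algebraMap_eq] at h1
    exact RingHom.flat_algebraMap_iff.mp h1
  have hflat2 : Module.Flat C (C ⊗[A] (Localization.AtPrime p)) := inferInstance
  let g : C ⊗[A] B →ₐ[C] C ⊗[A] (Localization.AtPrime p) :=
    Algebra.TensorProduct.map (AlgHom.id C C) (IsScalarTower.toAlgHom A B (Localization.AtPrime p))
  let _ : Algebra (C ⊗[A] B) (C ⊗[A] (Localization.AtPrime p)) := g.toRingHom.toAlgebra
  have _ : IsScalarTower C (C ⊗[A] B) (C ⊗[A] (Localization.AtPrime p)) :=
    IsScalarTower.of_algebraMap_eq fun x => (g.commutes x).symm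
  have hloc : IsLocalization (M.map ι) (C ⊗[A] (Localization.AtPrime p)) :=
    IsLocalization.tensorProduct_tensorProduct_right A C M (Localization.AtPrime p) (by
      ext x
      change g ((1 : C) ⊗ₜ[A] x) = _
      simp [g])
  have hle : M.map ι ≤ q.primeCompl := by
    rintro _ ⟨x, hx, rfl⟩ hmem
    exact hx hmem
  have hu : ∀ y : (M.map ι : Submonoid (C ⊗[A] B)),
      IsUnit (algebraMap (C ⊗[A] B) (Localization.AtPrime q) y) := fun y =>
    IsLocalization.map_units (Localization.AtPrime q) (⟨y.1, hle y.2⟩ : q.primeCompl)
  let k : (C ⊗[A] (Localization.AtPrime p)) →+* Localization.AtPrime q := IsLocalization.lift hu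
  have hk : k.comp (algebraMap (C ⊗[A] B) (C ⊗[A] (Localization.AtPrime p))) =
      algebraMap (C ⊗[A] B) (Localization.AtPrime q) := IsLocalization.lift_comp hu
  have hkf : k.Flat := by
    let _ : Algebra (C ⊗[A] (Localization.AtPrime p)) (Localization.AtPrime q) := k.toAlgebra
    have _ : IsScalarTower (C ⊗[A] B) (C ⊗[A] (Localization.AtPrime p)) (Localization.AtPrime q) :=
      IsScalarTower.of_algebraMap_eq fun x => (RingHom.congr_fun hk x).symm
    exact (Module.flat_iff_of_isLocalization (C ⊗[A] (Localization.AtPrime p)) (M.map ι)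
      (Localization.AtPrime q)).mpr inferInstance
  have h1 : (algebraMap (C ⊗[A] B) (Localization.AtPrime q)).comp (algebraMap C (C ⊗[A] B)) =
      k.comp (algebraMap C (C ⊗[A] (Localization.AtPrime p))) := by
    rw [← hk, RingHom.comp_assoc, ← IsScalarTower.algebraMap_eq]
  rw [FlatAt, h1]
  exact RingHom.Flat.comp (RingHom.flat_algebraMap_iff.mpr hflat2) hkf

end BC

section Quot

variable {R S : Type u} [CommRing R] [CommRing S] [Algebra R S]

/-- If `R / J → S / J S` is flat at the image of the prime `q`, then `S_q / J S_q` is flat over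
`R / J`. -/
theorem flat_quotient (J : Ideal R) (q : Ideal S) [q.IsPrime]
    (q' : Ideal (S ⧸ J.map (algebraMap R S))) [q'.IsPrime]
    (hq' : q'.comap (Ideal.Quotient.mk (J.map (algebraMap R S))) = q)
    (h : FlatAt (algebraMap (R ⧸ J) (S ⧸ J.map (algebraMap R S))) q') :
    Module.Flat (R ⧸ J) ((R ⧸ J) ⊗[R] (Localization.AtPrime q)) := by
  have hJ : J.map (algebraMap R (Localization.AtPrime q)) =
      (J.map (algebraMap R S)).map (algebraMap S (Localization.AtPrime q)) := by
    rw [Ideal.map_map, ← IsScalarTower.algebraMap_eq]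
  have hloc : IsLocalization (Algebra.algebraMapSubmonoid (S ⧸ J.map (algebraMap R S)) q.primeCompl)
      (Localization.AtPrime q ⧸
        (J.map (algebraMap R S)).map (algebraMap S (Localization.AtPrime q))) := inferInstance
  have hM : Algebra.algebraMapSubmonoid (S ⧸ J.map (algebraMap R S)) q.primeCompl =
      q'.primeCompl := by
    ext x
    constructor
    · rintro ⟨y, hy, rfl⟩ hmem
      apply hy
      rw [← hq']
      exact hmem
    · intro hx
      obtain ⟨x, rfl⟩ := Ideal.Quotient.mk_surjective x
      refine ⟨x, fun hmem => hx ?_, rfl⟩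
      rw [← hq'] at hmem
      exact hmem
  rw [hM] at hloc
  let e : Localization.AtPrime q' ≃ₐ[S ⧸ J.map (algebraMap R S)] (Localization.AtPrime q ⧸
        (J.map (algebraMap R S)).map (algebraMap S (Localization.AtPrime q))) :=
    IsLocalization.algEquiv q'.primeCompl _ _
  let e' : (Localization.AtPrime q ⧸
        (J.map (algebraMap R S)).map (algebraMap S (Localization.AtPrime q))) ≃+*
        (Localization.AtPrime q ⧸ J.map (algebraMap R (Localization.AtPrime q))) :=
    Ideal.quotEquivOfEq hJ.symm
  have h1 : algebraMap (R ⧸ J) (Localization.AtPrime q ⧸ J.map (algebraMap R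
      (Localization.AtPrime q))) = (e'.toRingHom.comp e.toRingEquiv.toRingHom).comp
        ((algebraMap (S ⧸ J.map (algebraMap R S)) (Localization.AtPrime q')).comp
          (algebraMap (R ⧸ J) (S ⧸ J.map (algebraMap R S)))) := by
    apply Ideal.Quotient.ringHom_ext
    ext x
    have h2 : e (algebraMap (S ⧸ J.map (algebraMap R S)) (Localization.AtPrime q')
        (Ideal.Quotient.mk _ (algebraMap R S x))) =
        Ideal.Quotient.mk _ (algebraMap S (Localization.AtPrime q) (algebraMap R S x)) :=
      e.commutes _
    change Ideal.Quotient.mk _ (algebraMap R (Localization.AtPrime q) x) =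
      e' (e (algebraMap (S ⧸ J.map (algebraMap R S)) (Localization.AtPrime q')
        (Ideal.Quotient.mk _ (algebraMap R S x))))
    rw [h2, ← IsScalarTower.algebraMap_apply]
    rfl
  have h3 : Module.Flat (R ⧸ J) (Localization.AtPrime q ⧸ J.map (algebraMap R
      (Localization.AtPrime q))) := by
    rw [← RingHom.flat_algebraMap_iff, h1]
    refine RingHom.Flat.comp h (RingHom.Flat.of_bijective ?_)
    exact e'.bijective.comp e.bijective
  exact Module.Flat.of_linearEquiv
    (Algebra.TensorProduct.quotIdealMapEquivQuotTensor (Localization.AtPrime q) J).toLinearEquiv.symm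

end Quot

end K24.FlatBC
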