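import Groth.Agent.AdicRing.K24.Below
import Groth.Agent.AdicRing.K24.CLocFF

/-!
# Rig-flatness: Jacobson case (`S8841`), étale reduction (`S8845`)
-/

set_option autoImplicit false
universe u

namespace K24.Main

open K24.Rig K24.CLoc K24.Tft K24.FlatAt K24.RigFlat

variable {A B : Type u} [CommRing A] [CommRing B] [IsNoetherianRing A] {I : Ideal A}
  {φ : A →+* B}

/-- `S8841`, for all models of the completed localizations. -/
theorem nrf_of_jacobson [IsAdicComplete I A] (h : TFT I φ) (hJ : IsJacobsonRing (A ⧸ I))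
    (hnaive : ∀ q : PrimeSpectrum B, RigClosed (I.map φ) q → FlatAt φ q.asIdeal)
    {A' B' : Type u} [CommRing A'] [CommRing B'] {f : A} {a : A →+* A'} {b : B →+* B'}
    {ψ : A' →+* B'} (ha : IsCLoc I f a) (hb : IsCLoc (I.map φ) (φ f) b)
    (hψ : ψ.comp a = b.comp φ) : NRF (I.map a) ψ := by
  have hBn := h.noeth
  have hBc := h.complete
  have hA'n := ha.isNoetherianRing
  have hA'c := ha.complete
  have hB'n := hb.isNoetherianRing
  have hnrf : NRF I φ := NRF.of_rigClosed _ _ hnaive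
  have htft : TFT I (ψ.comp a) := by rw [hψ]; exact h.comp hb.tft
  have htft' : TFT (I.map a) ψ := htft.of_comp
  have hJ' : IsJacobsonRing (A' ⧸ I.map a) := by
    let _ := (Ideal.quotientMap (I.map a) a Ideal.le_comap_map).toAlgebra
    have : Algebra.FiniteType (A ⧸ I) (A' ⧸ I.map a) := ha.ft_red
    exact isJacobsonRing_of_finiteType (A := A ⧸ I)
  apply NRF.of_rigClosed
  intro q hq
  have hp' := htft'.rigClosed_comap_of_isJacobsonRing q hq hJ'
  have hp := ha.tft.rigClosed_comap_of_isJacobsonRing (PrimeSpectrum.comap ψ q) hp' hJ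
  have hmax := ha.tft.map_comap_eq_maximalIdeal ha.unr (PrimeSpectrum.comap ψ q) hp' hp
  refine FlatAt.of_map_eq_maximalIdeal rfl hmax ?_
  rw [hψ]
  refine FlatAt.comp rfl (hnrf _ ?_) (FlatAt.of_flat hb.flat _)
  intro hle
  apply hq.1
  rw [Ideal.map_map, hψ, ← Ideal.map_map, Ideal.map_le_iff_le_comap]
  exact hle

/-- Reduction of flatness at a rig-closed prime `q` of `D` to the completed localization `D_{f}`. -/
theorem flatAt_of_cloc {C D C₂ D₂ : Type u} [CommRing C] [CommRing D] [CommRing C₂] [CommRing D₂]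
    [IsNoetherianRing C] [IsNoetherianRing D] {J : Ideal C} {χ : C →+* D}
    [IsAdicComplete (J.map χ) D] {f : C} {c : C →+* C₂} {d : D →+* D₂} {χ₂ : C₂ →+* D₂}
    (hc : IsCLoc J f c) (hd : IsCLoc (J.map χ) (χ f) d) (hχ : χ₂.comp c = d.comp χ)
    (q : Ideal D) [q.IsPrime] (hf : IsUnit (Ideal.Quotient.mk q (χ f))) (q₂ : Ideal D₂) [q₂.IsPrime]
    (hq₂ : q₂ = q.map d) (h : FlatAt χ₂ q₂) : FlatAt χ q := by
  have h1 : FlatAt (d.comp χ) q₂ := by
    rw [← hχ]
    exact FlatAt.comp rfl (FlatAt.of_flat hc.flat _) h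
  refine FlatAt.of_comp ?_ (FlatAt.of_flat hd.flat q₂) h1
  rw [hq₂, hd.comap_map q hf]

/-- The naive form of `S8845`. -/
theorem nrf_of_etale {A B C D : Type u} [CommRing A] [CommRing B] [CommRing C] [CommRing D]
    [IsNoetherianRing A] {I : Ideal A} {φ : A →+* B} {γ : A →+* C} {δ : B →+* D} {χ : C →+* D}
    (hcomm : δ.comp φ = χ.comp γ) (tφ : TFT I φ) (tγ : TFT I γ)
    (tχ : TFT (I.map γ) χ) (hγ : γ.Flat) (hδ : δ.Flat) (hu : Unr I γ) (h : RigFlat I φ) :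
    NRF (I.map γ) χ := by
  have hBn := tφ.noeth
  have hCn := tγ.noeth
  have hDn := tχ.noeth
  have hCc := tγ.complete
  have hDc := tχ.complete
  apply NRF.of_rigClosed
  intro q hq
  have tχγ : TFT I (χ.comp γ) := tγ.comp tχ
  obtain ⟨f, hf, H⟩ := K24.Below.exists_below tχγ q (by rwa [← Ideal.map_map])
  have hIJ : (I.map γ).map χ = (I.map φ).map δ := by rw [Ideal.map_map, Ideal.map_map, hcomm]
  have hfe : χ (γ f) = δ (φ f) := (RingHom.congr_fun hcomm f).symm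
  -- models
  obtain ⟨A₂, _, a, ha⟩ := exists_isCLoc I (IsNoetherian.noetherian I) f
  obtain ⟨B₂, _, b, hb⟩ := exists_isCLoc (I.map φ) (IsNoetherian.noetherian _) (φ f)
  obtain ⟨C₂, _, c, hc⟩ := exists_isCLoc (I.map γ) (IsNoetherian.noetherian _) (γ f)
  obtain ⟨D₂, _, d, hd⟩ := exists_isCLoc ((I.map γ).map χ) (IsNoetherian.noetherian _) (χ (γ f))
  have hd' : IsCLoc ((I.map φ).map δ) (δ (φ f)) d := by rw [← hIJ, ← hfe]; exact hd
  have hd'' : IsCLoc (I.map (χ.comp γ)) (χ.comp γ f) d := by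
    rw [← Ideal.map_map]; exact hd
  have hA₂n := ha.isNoetherianRing
  have hA₂c := ha.complete
  have hC₂n := hc.isNoetherianRing
  have hD₂n := hd.isNoetherianRing
  have hD₂c := hd.complete
  obtain ⟨φ₂, hφ₂⟩ := exists_map ha hb hb.isUnit
  obtain ⟨γ₂, hγ₂⟩ := exists_map ha hc hc.isUnit
  obtain ⟨χ₂, hχ₂⟩ := exists_map hc hd hd.isUnit
  obtain ⟨δ₂, hδ₂⟩ := exists_map hb hd' hd'.isUnit
  have hsq : δ₂.comp φ₂ = χ₂.comp γ₂ := by
    apply ha.hom_ext (((I.map γ).map χ).map d)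
    · rw [RingHom.comp_assoc, hφ₂, ← RingHom.comp_assoc, hδ₂, RingHom.comp_assoc, hcomm,
        ← Ideal.map_map, ← Ideal.map_map]
    · rw [RingHom.comp_assoc, hφ₂, ← RingHom.comp_assoc, hδ₂, RingHom.comp_assoc, hcomm,
        RingHom.comp_assoc, hγ₂, ← RingHom.comp_assoc, ← RingHom.comp_assoc, hχ₂]
  have hχγ : (χ₂.comp γ₂).comp a = d.comp (χ.comp γ) := by
    rw [RingHom.comp_assoc, hγ₂, ← RingHom.comp_assoc, hχ₂, RingHom.comp_assoc]
  -- the prime `q D₂`
  have hprime : (q.asIdeal.map d).IsPrime := hd.isPrime_map q.asIdeal hf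
  let q₂ : PrimeSpectrum D₂ := ⟨q.asIdeal.map d, hprime⟩
  have hp₂ : RigClosed (I.map a) (PrimeSpectrum.comap (χ₂.comp γ₂) q₂) :=
    H a d (χ₂.comp γ₂) ha hd'' hχγ q₂ rfl
  -- structure maps
  have tγ₂ : TFT (I.map a) γ₂ := by
    have : TFT I (γ₂.comp a) := by rw [hγ₂]; exact tγ.comp hc.tft
    exact this.of_comp
  have uγ₂ : Unr (I.map a) γ₂ := by
    have : Unr I (γ₂.comp a) := by rw [hγ₂]; exact hu.comp hc.unr
    exact this.of_comp
  have hJ₂ : (I.map a).map γ₂ = (I.map γ).map c := by rw [Ideal.map_map, Ideal.map_map, hγ₂]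
  have tχ₂ : TFT ((I.map a).map γ₂) χ₂ := by
    have : TFT I ((χ₂.comp γ₂).comp a) := by rw [hχγ]; exact tχγ.comp hd''.tft
    exact this.of_comp.of_comp
  have hq₂ : RigClosed (((I.map a).map γ₂).map χ₂) q₂ := by
    have h1 := hd.rigClosed_map q hq hf q₂ rfl
    have h2 : ((I.map a).map γ₂).map χ₂ = ((I.map γ).map χ).map d := by
      rw [hJ₂, Ideal.map_map, hχ₂, ← Ideal.map_map]
    rw [h2]
    exact h1
  have hr₂ : RigClosed ((I.map a).map γ₂) (PrimeSpectrum.comap χ₂ q₂) :=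
    tγ₂.rigClosed_of_tower tχ₂ q₂ hq₂ hp₂
  have hmax := tγ₂.map_comap_eq_maximalIdeal uγ₂ (PrimeSpectrum.comap χ₂ q₂) hr₂ hp₂
  have hnot : ¬ (I.map a).map φ₂ ≤ q₂.asIdeal.comap δ₂ := by
    intro hle
    apply hq₂.1
    rw [Ideal.map_map, ← hsq, ← Ideal.map_map, Ideal.map_le_iff_le_comap]
    exact hle
  have hflat : FlatAt (χ₂.comp γ₂) q₂.asIdeal := by
    rw [← hsq]
    exact FlatAt.comp rfl (h f A₂ B₂ a b φ₂ ha hb hφ₂ (q₂.asIdeal.comap δ₂) hnot)
      (FlatAt.of_flat (hb.flat_map hd' hδ δ₂ hδ₂) _)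
  have hfin : FlatAt χ₂ q₂.asIdeal := FlatAt.of_map_eq_maximalIdeal rfl hmax hflat
  exact flatAt_of_cloc hc hd hχ₂ q.asIdeal hf q₂.asIdeal rfl hfin

/-- `S8845`. -/
theorem rigFlat_of_etale {A B C D : Type u} [CommRing A] [CommRing B] [CommRing C] [CommRing D]
    [IsNoetherianRing A] {I : Ideal A} {φ : A →+* B} {γ : A →+* C} {δ : B →+* D} {χ : C →+* D}
    (hcomm : δ.comp φ = χ.comp γ) (tφ : TFT I φ) (tγ : TFT I γ)
    (tχ : TFT (I.map γ) χ) (hγ : γ.Flat) (hδ : δ.Flat) (hu : Unr I γ) (h : RigFlat I φ) :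
    RigFlat (I.map γ) χ := by
  have hBn := tφ.noeth
  have hCn := tγ.noeth
  have hDn := tχ.noeth
  intro f C' D' _ _ c d ψ hc hd hψ
  have e : (I.map γ).map c = I.map (c.comp γ) := Ideal.map_map _ _
  rw [e]
  have hcomm' : (d.comp δ).comp φ = ψ.comp (c.comp γ) := by
    rw [RingHom.comp_assoc, hcomm, ← RingHom.comp_assoc, ← hψ, RingHom.comp_assoc]
  have tχd : TFT (I.map γ) (ψ.comp c) := by rw [hψ]; exact tχ.comp hd.tft
  apply nrf_of_etale hcomm' tφ (tγ.comp hc.tft) ?_ (hγ.comp hc.flat) (hδ.comp hd.flat)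
    (hu.comp hc.unr) h
  have := tχd.of_comp
  rwa [e] at this

end K24.Main
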