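import Groth.Agent.S8829
import Groth.Agent.AdicRing.K24.RigDef
import Mathlib.RingTheory.Jacobson.Ring
import Mathlib.RingTheory.Ideal.GoingDown
import Mathlib.RingTheory.AdicCompletion.Noetherian

/-!
# Rig-closed primes

`RigClosed I q`: `I ⊄ q` and `q` is maximal among the primes not containing `I`.
-/

set_option autoImplicit false
universe u

namespace K24.Rig

section Interface

variable (A : Type u) [CommRing A] [IsNoetherianRing A] (I : Ideal A) [IsAdicComplete I A]
  (B : Type u) [CommRing B] [Algebra A B] [IsNoetherianRing B]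
  [IsAdicComplete (I.map (algebraMap A B)) B]
  (hft : Algebra.FiniteType A (B ⧸ (I.map (algebraMap A B)))) (q : PrimeSpectrum B)
  (hq : RigClosed (I.map (algebraMap A B)) q)

include hft hq

theorem tfae : List.TFAE [∀ m : Ideal B, m.IsMaximal → q.asIdeal ≤ m → Module.Finite A (B ⧸ m),
    RigClosed I (PrimeSpectrum.comap (algebraMap A B) q), Module.Finite A (B ⧸ q.asIdeal)] :=
  Groth.Agent.S8829.result A I B hft q hq

theorem finite_of_rigClosed (hp : RigClosed I (PrimeSpectrum.comap (algebraMap A B) q)) :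
    Module.Finite A (B ⧸ q.asIdeal) :=
  ((tfae A I B hft q hq).out 1 2).mp hp

theorem rigClosed_of_finite (h : Module.Finite A (B ⧸ q.asIdeal)) :
    RigClosed I (PrimeSpectrum.comap (algebraMap A B) q) :=
  ((tfae A I B hft q hq).out 1 2).mpr h

theorem rigClosed_of_residue
    (h : ∀ m : Ideal B, m.IsMaximal → q.asIdeal ≤ m → Module.Finite A (B ⧸ m)) :
    RigClosed I (PrimeSpectrum.comap (algebraMap A B) q) :=
  ((tfae A I B hft q hq).out 0 1).mp h

end Interface

/-- `S8835`. -/
theorem rigClosed_comap_of_isJacobsonRing (A : Type u) [CommRing A] [IsNoetherianRing A]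
    (I : Ideal A) [IsAdicComplete I A] (B : Type u) [CommRing B] [Algebra A B] [IsNoetherianRing B]
    [IsAdicComplete (I.map (algebraMap A B)) B]
    (hft : Algebra.FiniteType A (B ⧸ (I.map (algebraMap A B)))) (q : PrimeSpectrum B)
    (hq : RigClosed (I.map (algebraMap A B)) q) (hJ : IsJacobsonRing (A ⧸ I)) :
    RigClosed I (PrimeSpectrum.comap (algebraMap A B) q) := by
  apply rigClosed_of_residue A I B hft q hq
  intro m hm hqm
  have hIm : I.map (algebraMap A B) ≤ m := le_of_isMaximal (I.map (algebraMap A B)) m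
  let _ : Field (B ⧸ m) := Ideal.Quotient.field m
  have hI0 : ∀ a ∈ I, algebraMap A (B ⧸ m) a = 0 := fun a ha =>
    Ideal.Quotient.eq_zero_iff_mem.mpr (hIm (Ideal.mem_map_of_mem _ ha))
  let _ : Algebra (A ⧸ I) (B ⧸ m) := (Ideal.Quotient.lift I (algebraMap A (B ⧸ m)) hI0).toAlgebra
  have _ : IsScalarTower A (A ⧸ I) (B ⧸ m) := IsScalarTower.of_algebraMap_eq fun x => rfl
  have h1 : Algebra.FiniteType A (B ⧸ m) :=
    Algebra.FiniteType.of_surjective (Ideal.Quotient.factorₐ A hIm)
      (Ideal.Quotient.factor_surjective hIm)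
  have h2 : Algebra.FiniteType (A ⧸ I) (B ⧸ m) := Algebra.FiniteType.of_restrictScalars_finiteType A _ _
  have h3 : Module.Finite (A ⧸ I) (B ⧸ m) := finite_of_finite_type_of_isJacobsonRing _ _
  exact Module.Finite.trans (A ⧸ I) _

/-- `S8836`. -/
theorem exists_rigClosed_over_iff (A : Type u) [CommRing A] [IsNoetherianRing A] (I : Ideal A)
    [IsAdicComplete I A] (B : Type u) [CommRing B] [Algebra A B] [IsNoetherianRing B]
    [IsAdicComplete (I.map (algebraMap A B)) B]
    (hft : Algebra.FiniteType A (B ⧸ (I.map (algebraMap A B)))) [Module.Flat A B]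
    (p : PrimeSpectrum A) (hp : RigClosed I p) :
    (∃ Q : PrimeSpectrum B, (I.map (algebraMap A B)) ≤ Q.asIdeal ∧
      p.asIdeal ≤ (PrimeSpectrum.comap (algebraMap A B) Q).asIdeal ∧
      (PrimeSpectrum.comap (algebraMap A B) Q).asIdeal.IsMaximal) ↔
    (∃ q : PrimeSpectrum B, RigClosed (I.map (algebraMap A B)) q ∧
      PrimeSpectrum.comap (algebraMap A B) q = p) := by
  constructor
  · rintro ⟨Q, -, hpQ, -⟩
    have hQ : Q.asIdeal.LiesOver (PrimeSpectrum.comap (algebraMap A B) Q).asIdeal := ⟨rfl⟩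
    obtain ⟨P, -, hP, hPp⟩ := Ideal.exists_ideal_le_liesOver_of_le (p := p.asIdeal)
      (q := (PrimeSpectrum.comap (algebraMap A B) Q).asIdeal) Q.asIdeal hpQ
    have hPI : ¬ (I.map (algebraMap A B)) ≤ P := by
      intro h
      apply hp.1
      rw [hPp.over]
      exact Ideal.map_le_iff_le_comap.mp h
    obtain ⟨q, hPq, hq⟩ := exists_rigClosed_ge (I.map (algebraMap A B)) ⟨P, hP⟩ hPI
    refine ⟨q, hq, hp.2 _ ?_ ?_⟩
    · change p.asIdeal ≤ q.asIdeal.comap (algebraMap A B)
      rw [hPp.over]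
      exact Ideal.comap_mono hPq
    · intro h
      exact hq.1 (Ideal.map_le_iff_le_comap.mpr h)
  · rintro ⟨q, hq, rfl⟩
    have hfin : Module.Finite A (B ⧸ q.asIdeal) := finite_of_rigClosed A I B hft q hq hp
    obtain ⟨m, hm, hqm⟩ := Ideal.exists_le_maximal q.asIdeal q.2.ne_top
    refine ⟨⟨m, hm.isPrime⟩, le_of_isMaximal _ m, Ideal.comap_mono hqm, ?_⟩
    have hfin2 : Module.Finite A (B ⧸ m) :=
      Module.Finite.of_surjective (Ideal.Quotient.factorₐ A hqm).toLinearMap
        (Ideal.Quotient.factor_surjective hqm)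
    change (m.comap (algebraMap A B)).IsMaximal
    have h1 : ((⊥ : Ideal (B ⧸ m)).comap (algebraMap A (B ⧸ m))).IsMaximal :=
      Ideal.isMaximal_comap_of_isIntegral_of_isMaximal (⊥ : Ideal (B ⧸ m))
        (hI := Ideal.bot_quotient_isMaximal_iff m |>.mpr hm)
    have h2 : (⊥ : Ideal (B ⧸ m)).comap (algebraMap A (B ⧸ m)) = m.comap (algebraMap A B) := by
      change (⊥ : Ideal (B ⧸ m)).comap ((Ideal.Quotient.mk m).comp (algebraMap A B)) = _
      rw [← Ideal.comap_comap]
      congr 1
      exact Ideal.mk_ker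
    rwa [h2] at h1

end K24.Rig
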