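import Groth.Agent.AdicRing.K24.TftDef
import Groth.Agent.AdicRing.K24.FlatAt

/-!
# Rig-flat ring maps, independently of the models of the completed localizations
-/

set_option autoImplicit false
set_option linter.dupNamespace false
universe u

namespace K24.RigFlat

open K24.Rig K24.CLoc K24.FlatAt

/-- Rig-flatness of `φ : A → B` (with respect to the ideal of definition `I` of `A`): for all `f`, the
map `A_{f} → B_{f}` is flat at all primes of `B_{f}` not containing `I`. -/
def RigFlat {A B : Type u} [CommRing A] [CommRing B] (I : Ideal A) (φ : A →+* B) : Prop :=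
  ∀ (f : A) (A' B' : Type u) [CommRing A'] [CommRing B'] (a : A →+* A') (b : B →+* B')
    (ψ : A' →+* B'), IsCLoc I f a → IsCLoc (I.map φ) (φ f) b → ψ.comp a = b.comp φ →
    NRF (I.map a) ψ

/-- It suffices to check flatness at rig-closed primes. -/
theorem NRF.of_rigClosed {R S : Type u} [CommRing R] [CommRing S] [IsNoetherianRing S] (J : Ideal R)
    (φ : R →+* S) (h : ∀ q : PrimeSpectrum S, RigClosed (J.map φ) q → FlatAt φ q.asIdeal) :
    NRF J φ := by
  intro q _ hq
  obtain ⟨q', hle, hq'⟩ := exists_rigClosed_ge (J.map φ) ⟨q, inferInstance⟩ hq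
  exact FlatAt.mono hle (h q' hq')

/-- Transport of `NRF` along isomorphisms. -/
theorem NRF.of_equiv {R S R' S' : Type u} [CommRing R] [CommRing S] [CommRing R'] [CommRing S']
    {J : Ideal R} {φ : R →+* S} (h : NRF J φ) (e : R ≃+* R') (e' : S ≃+* S') (φ' : R' →+* S')
    (hcomm : φ'.comp e = (e' : S →+* S').comp φ) : NRF (J.map (e : R →+* R')) φ' := by
  intro q _ hq
  have hJ : (J.map (e : R →+* R')).map φ' = (J.map φ).map (e' : S →+* S') := by
    rw [Ideal.map_map, Ideal.map_map, hcomm]
  rw [hJ, Ideal.map_le_iff_le_comap] at hq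
  have h1 := h (q.comap (e' : S →+* S')) hq
  have h2 : φ' = (e' : S →+* S').comp (φ.comp (e.symm : R' →+* R)) := by
    rw [← RingHom.comp_assoc, ← hcomm, RingHom.comp_assoc]
    ext x
    simp
  rw [h2]
  refine FlatAt.comp rfl (FlatAt.comp rfl (FlatAt.of_flat ?_ _) h1) (FlatAt.of_flat ?_ _)
  · exact RingHom.Flat.of_bijective e.symm.bijective
  · exact RingHom.Flat.of_bijective e'.bijective

section Concrete

variable {A B : Type u} [CommRing A] [CommRing B] [Algebra A B] (J : Ideal A)

/-- Compatibility on localizations is compatibility over `A`. -/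
theorem comp_awayMap_iff (f : A) {A' B' : Type u} [CommRing A'] [CommRing B']
    (a : Localization.Away f →+* A') (b : Localization.Away (algebraMap A B f) →+* B')
    (ψ : A' →+* B') : ψ.comp a = b.comp (Localization.awayMap (algebraMap A B) f) ↔
      ψ.comp (a.comp (algebraMap A (Localization.Away f))) =
        (b.comp (algebraMap B (Localization.Away (algebraMap A B f)))).comp (algebraMap A B) := by
  have hloc : (Localization.awayMap (algebraMap A B) f).comp (algebraMap A (Localization.Away f)) =
      (algebraMap B (Localization.Away (algebraMap A B f))).comp (algebraMap A B) := by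
    exact IsLocalization.map_comp _
  constructor
  · intro h
    rw [← RingHom.comp_assoc, h, RingHom.comp_assoc, hloc, ← RingHom.comp_assoc]
  · intro h
    apply IsLocalization.ringHom_ext (Submonoid.powers f)
    rw [RingHom.comp_assoc, h, RingHom.comp_assoc, RingHom.comp_assoc, hloc]

/-- The form of rig-flatness used in the statements. -/
abbrev ConcreteRigFlat (A B : Type u) [CommRing A] [CommRing B] [Algebra A B] (J : Ideal A) :
    Prop :=
  ∀ f : A, ∀ ψf : (AdicCompletion (J.map (algebraMap A (Localization.Away f)))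
      (Localization.Away f)) →+* (AdicCompletion ((J.map (algebraMap A B)).map
        (algebraMap B (Localization.Away (algebraMap A B f))))
        (Localization.Away (algebraMap A B f))),
    ψf.comp (algebraMap (Localization.Away f) (AdicCompletion
      (J.map (algebraMap A (Localization.Away f))) (Localization.Away f))) =
      (algebraMap (Localization.Away (algebraMap A B f)) (AdicCompletion
        ((J.map (algebraMap A B)).map (algebraMap B (Localization.Away (algebraMap A B f))))
        (Localization.Away (algebraMap A B f)))).comp (Localization.awayMap (algebraMap A B) f) →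
    ∀ qf : PrimeSpectrum (AdicCompletion ((J.map (algebraMap A B)).map
      (algebraMap B (Localization.Away (algebraMap A B f)))) (Localization.Away (algebraMap A B f))),
      (¬ (((J.map (algebraMap A B)).map (algebraMap B (Localization.Away (algebraMap A B f)))).map
        (algebraMap (Localization.Away (algebraMap A B f)) (AdicCompletion
          ((J.map (algebraMap A B)).map (algebraMap B (Localization.Away (algebraMap A B f))))
          (Localization.Away (algebraMap A B f))))) ≤ qf.asIdeal ∧
        ∀ y : PrimeSpectrum (AdicCompletion ((J.map (algebraMap A B)).map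
          (algebraMap B (Localization.Away (algebraMap A B f))))
          (Localization.Away (algebraMap A B f))), qf ≤ y →
          ¬ (((J.map (algebraMap A B)).map (algebraMap B (Localization.Away (algebraMap A B f)))).map
          (algebraMap (Localization.Away (algebraMap A B f)) (AdicCompletion
            ((J.map (algebraMap A B)).map (algebraMap B (Localization.Away (algebraMap A B f))))
            (Localization.Away (algebraMap A B f))))) ≤ y.asIdeal → y = qf) →
      ((algebraMap (AdicCompletion ((J.map (algebraMap A B)).map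
        (algebraMap B (Localization.Away (algebraMap A B f))))
        (Localization.Away (algebraMap A B f))) (Localization.AtPrime qf.asIdeal)).comp ψf).Flat

/-- The ideal `(J.map φ).map b` in the shape of the statements. -/
theorem map_map_comp {A B R B' : Type u} [CommRing A] [CommRing B] [CommRing R] [CommRing B']
    (J : Ideal A) {A' : Type u} [CommRing A'] {φ : A →+* B} {a : A →+* A'} {b : B →+* B'}
    {ψ : A' →+* B'} (h : ψ.comp a = b.comp φ) : (J.map a).map ψ = (J.map φ).map b := by
  rw [Ideal.map_map, Ideal.map_map, h]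

theorem not_le_aux {A A' B B₁ B' : Type u} [CommRing A] [CommRing A'] [CommRing B] [CommRing B₁]
    [CommRing B'] (J : Ideal A) {a : A →+* A'} {φ : A →+* B} {b₁ : B →+* B₁} {b₂ : B₁ →+* B'}
    {ψ : A' →+* B'} (h : ψ.comp a = (b₂.comp b₁).comp φ) {q : Ideal B'}
    (hq : ¬ ((J.map φ).map b₁).map b₂ ≤ q) : ¬ (J.map a).map ψ ≤ q := by
  rwa [Ideal.map_map, h, ← Ideal.map_map, ← Ideal.map_map]

theorem nrf_of_model {A B A₁ B₁ A' B' : Type u} [CommRing A] [CommRing B] [CommRing A₁]
    [CommRing B₁] [CommRing A'] [CommRing B'] [IsNoetherianRing B] {J : Ideal A} {φ : A →+* B}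
    {f : A} {a₁ : A →+* A₁} {b₁ : B →+* B₁} (ha₁ : IsCLoc J f a₁)
    (hb₁ : IsCLoc (J.map φ) (φ f) b₁)
    (H : ∀ ψ₁ : A₁ →+* B₁, ψ₁.comp a₁ = b₁.comp φ → ∀ q : PrimeSpectrum B₁,
      RigClosed ((J.map φ).map b₁) q → FlatAt ψ₁ q.asIdeal)
    {a : A →+* A'} {b : B →+* B'} {ψ : A' →+* B'} (ha : IsCLoc J f a)
    (hb : IsCLoc (J.map φ) (φ f) b) (hψ : ψ.comp a = b.comp φ) : NRF (J.map a) ψ := by
  obtain ⟨e, he⟩ := ha₁.exists_equiv ha
  obtain ⟨e', he'⟩ := hb₁.exists_equiv hb
  let ψ₁ : A₁ →+* B₁ := ((e'.symm : B' →+* B₁).comp ψ).comp (e : A₁ →+* A')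
  have hψ₁ : ψ.comp (e : A₁ →+* A') = (e' : B₁ →+* B').comp ψ₁ := by
    ext x
    simp [ψ₁]
  have hN := hb₁.isNoetherianRing
  have hcomm : ψ₁.comp a₁ = b₁.comp φ := by
    have h1 : (e' : B₁ →+* B').comp (ψ₁.comp a₁) = (e' : B₁ →+* B').comp (b₁.comp φ) := by
      rw [← RingHom.comp_assoc, ← hψ₁, RingHom.comp_assoc, he, hψ, ← he', RingHom.comp_assoc]
    ext x
    exact e'.injective (RingHom.congr_fun h1 x)
  have key : NRF (J.map a₁) ψ₁ := by
    apply NRF.of_rigClosed
    intro q hq
    rw [map_map_comp (R := A) J hcomm] at hq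
    exact H ψ₁ hcomm q hq
  have := NRF.of_equiv key e e' ψ hψ₁
  rwa [Ideal.map_map, he] at this

theorem rigFlat_iff [IsNoetherianRing A] [IsNoetherianRing B] :
    ConcreteRigFlat A B J ↔ RigFlat J (algebraMap A B) := by
  constructor
  · intro H f A' B' _ _ a b ψ ha hb hψ
    refine nrf_of_model (isCLoc_adicCompletion J (IsNoetherian.noetherian J) f)
      (isCLoc_adicCompletion (J.map (algebraMap A B))
      (IsNoetherian.noetherian (J.map (algebraMap A B))) (algebraMap A B f)) ?_ ha hb hψ
    intro ψ₁ hψ₁ q hq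
    rw [← Ideal.map_map] at hq
    exact H f ψ₁ ((comp_awayMap_iff f _ _ ψ₁).mpr hψ₁) q hq
  · intro H f ψ hψ q hq
    have ha₁ := isCLoc_adicCompletion J (IsNoetherian.noetherian J) f
    have hb₁ := isCLoc_adicCompletion (J.map (algebraMap A B))
      (IsNoetherian.noetherian (J.map (algebraMap A B))) (algebraMap A B f)
    have hcomm := (comp_awayMap_iff f _ _ ψ).mp hψ
    exact H f _ _ _ _ ψ ha₁ hb₁ hcomm q.asIdeal (not_le_aux J hcomm hq.1)

end Concrete

/-- Existence of completed localizations. -/
theorem exists_isCLoc {A : Type u} [CommRing A] (I : Ideal A) (hI : I.FG) (f : A) :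
    ∃ (A' : Type u) (_ : CommRing A') (a : A →+* A'), IsCLoc I f a :=
  ⟨_, inferInstance, _, isCLoc_adicCompletion I hI f⟩

/-- Functoriality of completed localizations. -/
theorem exists_map {A B A' B' : Type u} [CommRing A] [CommRing B] [CommRing A'] [CommRing B']
    {I : Ideal A} {φ : A →+* B} {f : A} {g : B} {a : A →+* A'} {b : B →+* B'}
    (ha : IsCLoc I f a) (hb : IsCLoc (I.map φ) g b) (hfg : IsUnit (b (φ f))) :
    ∃ ψ : A' →+* B', ψ.comp a = b.comp φ := by
  have := hb.complete
  exact ha.exists_lift ((I.map φ).map b) (b.comp φ) (by rw [← Ideal.map_map]) hfg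

/-- Composition of rig-flat maps (`S8843`). -/
theorem RigFlat.comp {A B C : Type u} [CommRing A] [CommRing B] [CommRing C] [IsNoetherianRing A]
    [IsNoetherianRing B] [IsNoetherianRing C] {I : Ideal A} {φ : A →+* B} {χ : B →+* C}
    (h : RigFlat I φ) (h' : RigFlat (I.map φ) χ) : RigFlat I (χ.comp φ) := by
  intro f A' C' _ _ a c ψ ha hc hψ
  obtain ⟨B', _, b, hb⟩ := exists_isCLoc (I.map φ) (IsNoetherian.noetherian (I.map φ)) (φ f)
  have hc' : IsCLoc ((I.map φ).map χ) (χ (φ f)) c := by rw [Ideal.map_map]; exact hc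
  have hcc := hc'.complete
  obtain ⟨ψ₁, hψ₁⟩ := exists_map ha hb hb.isUnit
  obtain ⟨ψ₂, hψ₂⟩ := exists_map hb hc' hc'.isUnit
  have hψ' : ψ = ψ₂.comp ψ₁ := by
    apply ha.hom_ext (((I.map φ).map χ).map c)
    · rw [hψ, Ideal.map_map, Ideal.map_map]
      exact le_rfl
    · rw [hψ, RingHom.comp_assoc, hψ₁, ← RingHom.comp_assoc, ← RingHom.comp_assoc, hψ₂]
  rw [hψ']
  apply NRF.comp (h f A' _ a b ψ₁ ha hb hψ₁)
  have := h' (φ f) _ C' b c ψ₂ hb hc' hψ₂
  rwa [map_map_comp (R := A) I hψ₁]

end K24.RigFlat
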