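import Groth.Agent.AdicRing.K24.TensMain

/-!
# From rig-flatness to the statement of `S8846` (kept abstract to make the kernel check cheap)
-/

set_option autoImplicit false
universe u

namespace K24.TensFin
open K24.CLoc K24.FlatAt K24.RigFlat

/-- Flatness at `q` of a map between completed localizations, in the shape of the statements. -/
theorem flatAt_of_rigFlat {C D C₁ D₁ C' D' : Type u} [CommRing C] [CommRing D] [CommRing C₁] [CommRing D₁]
    [CommRing C'] [CommRing D'] {J : Ideal C} {χ : C →+* D} (H : RigFlat J χ) {h : C} {c₁ : C →+* C₁} {d₁ : D →+* D₁}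
    {c₂ : C₁ →+* C'} {d₂ : D₁ →+* D'} {ψ : C' →+* D'} {aw : C₁ →+* D₁}
    (hψ : ψ.comp c₂ = d₂.comp aw) {q : Ideal D'} [q.IsPrime] (hq : ¬ ((J.map χ).map d₁).map d₂ ≤ q)
    (haw : aw.comp c₁ = d₁.comp χ) (hc : IsCLoc J h (c₂.comp c₁))
    (hd : IsCLoc (J.map χ) (χ h) (d₂.comp d₁))  : FlatAt ψ q := by
  have hψ' : ψ.comp (c₂.comp c₁) = (d₂.comp d₁).comp χ := by
    rw [← RingHom.comp_assoc, hψ, RingHom.comp_assoc, haw, RingHom.comp_assoc]
  refine H h _ _ _ _ ψ hc hd hψ' q ?_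
  rw [Ideal.map_map, hψ', ← Ideal.map_map, ← Ideal.map_map]
  exact hq

end K24.TensFin
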