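import Groth.Agent.AdicRing.K24.FlatBC
import Groth.Agent.AdicRing.K24.CplQuot

/-!
# Flatness of `C → D` at a prime `q` with `D / q` finite over `A`, where `D` is the completed tensor
product of `B` and `C` over `A`.
-/

set_option autoImplicit false
universe u

namespace K24.TensFlat

open K24.CLoc K24.FlatAt K24.CplQuot K24.FlatBC TensorProduct

section Quot

variable {R R' : Type u} [CommRing R] [CommRing R'] {J : Ideal R} {f : R} {a : R →+* R'}

/-- `quot_surjective`, assuming only that the completed localization `R'` is Noetherian. -/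
theorem quot_surjective' [IsNoetherianRing R'] (h : IsCLoc J f a) (K : Ideal R)
    [IsPrecomplete J (R ⧸ K)] (hf : IsUnit (Ideal.Quotient.mk K f)) (y : R') :
    ∃ x : R, y - a x ∈ K.map a := by
  let _ : Algebra R R' := a.toAlgebra
  have hcomp := h.complete
  have hh : IsHausdorff (J.map a) (R' ⧸ K.map a) :=
    IsHausdorff.of_le_jacobson _ _ (IsAdicComplete.le_jacobson_bot _)
  have hh' : IsHausdorff J (R' ⧸ K.map a) := IsHausdorff.map_algebraMap_iff.mp hh
  let g : (R ⧸ K) →ₗ[R] (R' ⧸ K.map a) :=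
    (Submodule.liftQ K ((Submodule.mkQ (K.map a)).restrictScalars R ∘ₗ
      (Algebra.linearMap R R')) (fun x hx => by
        rw [LinearMap.mem_ker]
        exact Ideal.Quotient.eq_zero_iff_mem.mpr (Ideal.mem_map_of_mem a hx)))
  have hg : ∀ x : R, g (Ideal.Quotient.mk K x) = Ideal.Quotient.mk (K.map a) (a x) := fun x => rfl
  have hs : Function.Surjective g := by
    apply surjective_of_mkQ_comp_surjective (I := J)
    intro z
    obtain ⟨z, rfl⟩ := Submodule.mkQ_surjective _ z
    obtain ⟨z, rfl⟩ := Ideal.Quotient.mk_surjective z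
    obtain ⟨x, k, u, hu, hx⟩ := h.exists_unit_mul 1 z
    rw [pow_one] at hx
    obtain ⟨v, hv⟩ := hf.exists_left_inv
    obtain ⟨v, rfl⟩ := Ideal.Quotient.mk_surjective v
    have hv' : ∀ m : ℕ, v ^ m * f ^ m - 1 ∈ K := by
      intro m
      rw [← Ideal.Quotient.eq_zero_iff_mem, map_sub, map_mul, map_pow, map_pow, ← mul_pow, hv,
        one_pow, map_one, sub_self]
    refine ⟨Ideal.Quotient.mk K (v ^ k * x), ?_⟩
    rw [LinearMap.comp_apply, hg, eq_comm, Submodule.mkQ_apply, Submodule.mkQ_apply,
      Submodule.Quotient.eq, ← map_sub]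
    have h1 : a (v ^ k * f ^ k - 1) ∈ K.map a := Ideal.mem_map_of_mem _ (hv' k)
    have h4 : z - a (v ^ k * x) = (z - u * a x) - (u * a x) * a (v ^ k * f ^ k - 1) := by
      simp only [map_sub, map_mul, map_pow, map_one]
      linear_combination (a v ^ k * a x) * hu
    have h5 : Ideal.Quotient.mk (K.map a) (z - a (v ^ k * x)) =
        Ideal.Quotient.mk (K.map a) (z - u * a x) := by
      rw [h4, map_sub, Ideal.Quotient.eq_zero_iff_mem.mpr (Ideal.mul_mem_left _ _ h1), sub_zero]
    rw [h5]
    have h6 : Ideal.Quotient.mk (K.map a) (z - u * a x) ∈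
        (J • ⊤ : Submodule R (R' ⧸ K.map a)) := by
      have h7 : ((Submodule.mkQ (K.map a)).restrictScalars R) (z - u * a x) ∈
          (J • ⊤ : Submodule R R').map ((Submodule.mkQ (K.map a)).restrictScalars R) := by
        apply Submodule.mem_map_of_mem
        rw [Ideal.smul_top_eq_map]
        exact hx
      rw [Submodule.map_smul''] at h7
      exact Submodule.smul_mono le_rfl le_top h7
    exact h6
  obtain ⟨x, hx⟩ := hs (Ideal.Quotient.mk _ y)
  obtain ⟨x, rfl⟩ := Ideal.Quotient.mk_surjective x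
  refine ⟨x, ?_⟩
  rw [← Ideal.Quotient.eq, ← hx]
  exact hg x

end Quot

section Main

variable {A B C D : Type u} [CommRing A] [CommRing B] [CommRing C] [CommRing D]
  [Algebra A B] [Algebra A C] [Algebra A D] [Algebra C D] [Algebra B D] [IsScalarTower A C D]
  [IsScalarTower A B D] {I : Ideal A}

/-- `(C ⊗ B) / J (C ⊗ B)` is finite over `B` if `C / J` is finite over `A`. -/
theorem finite_quot (J : Ideal C) (hfin : ((Ideal.Quotient.mk J).comp (algebraMap A C)).Finite) :
    ((Ideal.Quotient.mk (J.map (algebraMap C (C ⊗[A] B)))).comp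
      (Algebra.TensorProduct.includeRight : B →ₐ[A] C ⊗[A] B).toRingHom).Finite := by
  have hfin' : Module.Finite A (C ⧸ J) := by
    rw [← RingHom.finite_algebraMap]
    exact hfin
  let σC : (C ⧸ J) →ₐ[A] (C ⊗[A] B) ⧸ (J.map (algebraMap C (C ⊗[A] B))) :=
    Ideal.quotientMapₐ (J.map (algebraMap C (C ⊗[A] B)))
      (Algebra.TensorProduct.includeLeft : C →ₐ[A] C ⊗[A] B) Ideal.le_comap_map
  let σB : B →ₐ[A] (C ⊗[A] B) ⧸ (J.map (algebraMap C (C ⊗[A] B))) :=
    (Ideal.Quotient.mkₐ A _).comp (Algebra.TensorProduct.includeRight : B →ₐ[A] C ⊗[A] B)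
  let σ : B ⊗[A] (C ⧸ J) →ₐ[A] (C ⊗[A] B) ⧸ (J.map (algebraMap C (C ⊗[A] B))) :=
    Algebra.TensorProduct.lift σB σC (fun _ _ => Commute.all _ _)
  have hσ : ∀ (x : C) (y : B), σ (y ⊗ₜ Ideal.Quotient.mk J x) =
      Ideal.Quotient.mk (J.map (algebraMap C (C ⊗[A] B))) (x ⊗ₜ y) := by
    intro x y
    have h1 : σ (y ⊗ₜ Ideal.Quotient.mk J x) = σB y * σC (Ideal.Quotient.mk J x) :=
      Algebra.TensorProduct.lift_tmul _ _ _ _ _
    rw [h1]
    change Ideal.Quotient.mk (J.map (algebraMap C (C ⊗[A] B))) (1 ⊗ₜ y) *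
      Ideal.Quotient.mk (J.map (algebraMap C (C ⊗[A] B))) (x ⊗ₜ 1) = _
    rw [← map_mul, Algebra.TensorProduct.tmul_mul_tmul, one_mul, mul_one]
  have hs : Function.Surjective σ := by
    intro z
    obtain ⟨z, rfl⟩ := Ideal.Quotient.mk_surjective z
    induction z with
    | zero => exact ⟨0, by rw [map_zero, map_zero]⟩
    | add x y hx hy =>
      obtain ⟨x', hx⟩ := hx
      obtain ⟨y', hy⟩ := hy
      exact ⟨x' + y', by rw [map_add, map_add, hx, hy]⟩
    | tmul x y => exact ⟨_, hσ x y⟩
  have e : (Ideal.Quotient.mk (J.map (algebraMap C (C ⊗[A] B)))).comp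
      (Algebra.TensorProduct.includeRight : B →ₐ[A] C ⊗[A] B).toRingHom =
      σ.toRingHom.comp (algebraMap B (B ⊗[A] (C ⧸ J))) := by
    ext y
    have h2 : σ (y ⊗ₜ (1 : C ⧸ J)) = Ideal.Quotient.mk (J.map (algebraMap C (C ⊗[A] B)))
        ((1 : C) ⊗ₜ y) := by
      rw [← hσ, map_one]
    exact h2.symm
  rw [e]
  refine (RingHom.Finite.of_surjective _ hs).comp ?_
  rw [RingHom.finite_algebraMap]
  infer_instance

variable (hτ : IsCLoc (I.map (algebraMap A (C ⊗[A] B))) 1
  (Algebra.TensorProduct.lift (IsScalarTower.toAlgHom A C D) (IsScalarTower.toAlgHom A B D)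
    (fun _ _ => Commute.all _ _) : C ⊗[A] B →ₐ[A] D).toRingHom)

include hτ in
/-- `(C / J) ⊗ B → D / J D` is bijective if `C / J` is finite over `A`. -/
theorem bijective_quot [IsNoetherianRing B] [IsNoetherianRing D]
    [IsAdicComplete (I.map (algebraMap A B)) B]
    (J : Ideal C) (hfin : ((Ideal.Quotient.mk J).comp (algebraMap A C)).Finite)
    (ω : (C ⧸ J) ⊗[A] B →+* D ⧸ J.map (algebraMap C D))
    (hωC : ∀ x : C, ω (Ideal.Quotient.mk J x ⊗ₜ 1) = Ideal.Quotient.mk _ (algebraMap C D x))
    (hωB : ∀ y : B, ω (1 ⊗ₜ y) = Ideal.Quotient.mk _ (algebraMap B D y)) :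
    Function.Bijective ω := by
  set τ : C ⊗[A] B →ₐ[A] D := Algebra.TensorProduct.lift (IsScalarTower.toAlgHom A C D)
    (IsScalarTower.toAlgHom A B D) (fun _ _ => Commute.all _ _) with hτdef
  have hτt : ∀ (x : C) (y : B), τ (x ⊗ₜ y) = algebraMap C D x * algebraMap B D y := fun x y =>
    Algebra.TensorProduct.lift_tmul _ _ _ x y
  set K : Ideal (C ⊗[A] B) := J.map (algebraMap C (C ⊗[A] B)) with hK
  have hKD : K.map τ.toRingHom = J.map (algebraMap C D) := by
    rw [hK, Ideal.map_map]
    congr 1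
    ext x
    have h1 : τ (x ⊗ₜ 1) = algebraMap C D x := by rw [hτt, map_one, mul_one]
    exact h1
  -- completeness of `(C ⊗ B) / K`
  have hfinB := finite_quot (B := B) J hfin
  have hcomp : IsAdicComplete (I.map (algebraMap A (C ⊗[A] B))) ((C ⊗[A] B) ⧸ K) := by
    have h1 := isAdicComplete_quot (I := I.map (algebraMap A B)) K hfinB
    rw [Ideal.map_map] at h1
    have h2 : (Algebra.TensorProduct.includeRight : B →ₐ[A] C ⊗[A] B).toRingHom.comp
        (algebraMap A B) = algebraMap A (C ⊗[A] B) :=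
      (Algebra.TensorProduct.includeRight : B →ₐ[A] C ⊗[A] B).comp_algebraMap
    rwa [h2] at h1
  -- the map `π : C ⊗ B → (C / J) ⊗ B`
  let π : C ⊗[A] B →ₐ[A] (C ⧸ J) ⊗[A] B :=
    Algebra.TensorProduct.map (Ideal.Quotient.mkₐ A J) (AlgHom.id A B)
  have hπt : ∀ (x : C) (y : B), π (x ⊗ₜ y) = Ideal.Quotient.mk J x ⊗ₜ y := fun x y => rfl
  have hπs : Function.Surjective π := by
    intro z
    induction z with
    | zero => exact ⟨0, map_zero _⟩
    | add x y hx hy =>
      obtain ⟨x', hx⟩ := hx
      obtain ⟨y', hy⟩ := hy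
      exact ⟨x' + y', by rw [map_add, hx, hy]⟩
    | tmul x y =>
      obtain ⟨x, rfl⟩ := Ideal.Quotient.mk_surjective x
      exact ⟨x ⊗ₜ y, rfl⟩
  have hπK : ∀ z ∈ K, π z = 0 := by
    have h1 : K ≤ RingHom.ker π.toRingHom := by
      rw [hK, Ideal.map_le_iff_le_comap]
      intro x hx
      change π (x ⊗ₜ 1) = 0
      rw [hπt, Ideal.Quotient.eq_zero_iff_mem.mpr hx, TensorProduct.zero_tmul]
    intro z hz
    exact h1 hz
  have hωπ : ∀ z, ω (π z) = Ideal.Quotient.mk _ (τ z) := by
    intro z
    induction z with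
    | zero => simp only [map_zero]
    | add x y hx hy => rw [map_add, map_add, hx, hy, map_add, map_add]
    | tmul x y =>
      rw [hπt, hτt, map_mul, ← hωC, ← hωB, ← map_mul, Algebra.TensorProduct.tmul_mul_tmul, mul_one,
        one_mul]
  have h1u : IsUnit (Ideal.Quotient.mk K (1 : C ⊗[A] B)) := by rw [map_one]; exact isUnit_one
  constructor
  · rw [injective_iff_map_eq_zero]
    intro z hz
    obtain ⟨z, rfl⟩ := hπs z
    rw [hωπ, Ideal.Quotient.eq_zero_iff_mem, ← hKD] at hz
    exact hπK z (mem_of_map_mem hτ K h1u z hz)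
  · intro y
    obtain ⟨y, rfl⟩ := Ideal.Quotient.mk_surjective y
    obtain ⟨z, hz⟩ := quot_surjective' hτ K h1u y
    rw [hKD] at hz
    refine ⟨π z, ?_⟩
    rw [hωπ, eq_comm, Ideal.Quotient.eq]
    exact hz

include hτ in
/-- Flatness of `C → D` at `q`, for `D` the completed tensor product of `C` and `B` over `A`, `D / q`
finite over `A` and `A → B` flat at the inverse image of `q`. -/
theorem flatAt [IsNoetherianRing B] [IsNoetherianRing C] [IsNoetherianRing D]
    [IsAdicComplete (I.map (algebraMap A B)) B] (q : Ideal D) [q.IsPrime]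
    (hfin : ((Ideal.Quotient.mk q).comp (algebraMap A D)).Finite) [IsNoetherianRing A]
    (hflat : FlatAt (algebraMap A B) (q.comap (algebraMap B D))) :
    FlatAt (algebraMap C D) q := by
  set r : Ideal C := q.comap (algebraMap C D) with hr
  have hfinr : ((Ideal.Quotient.mk r).comp (algebraMap A C)).Finite := by
    apply finite_comap_quot (κ := algebraMap C D) (π := algebraMap A C) q
    rwa [← IsScalarTower.algebraMap_eq]
  have hL : IsNoetherianRing (Localization.AtPrime q) :=
    IsLocalization.isNoetherianRing q.primeCompl _ inferInstance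
  have key : Module.Flat C (Localization.AtPrime q) := by
    apply Groth.Agent.FlatA.LocalCriterion.flat_of_forall_flat_quotient_pow
      (B := Localization.AtPrime q) r
    · refine le_trans ?_ (IsLocalRing.maximalIdeal_le_jacobson ⊥)
      rw [Ideal.map_le_iff_le_comap]
      intro x hx
      rw [Ideal.mem_comap, IsScalarTower.algebraMap_apply C D (Localization.AtPrime q),
        ← Localization.AtPrime.map_eq_maximalIdeal]
      exact Ideal.mem_map_of_mem _ hx
    · intro m hm
      have hfinm := finite_pow_quot r hfinr m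
      set J : Ideal C := r ^ m with hJ
      have hJq : J.map (algebraMap C D) ≤ q := by
        rw [Ideal.map_le_iff_le_comap, ← hr]
        exact Ideal.pow_le_self hm.ne'
      set q' : Ideal (D ⧸ J.map (algebraMap C D)) :=
        q.map (Ideal.Quotient.mk (J.map (algebraMap C D))) with hq'
      have hcomap : q'.comap (Ideal.Quotient.mk (J.map (algebraMap C D))) = q := by
        rw [hq', Ideal.comap_map_of_surjective _ Ideal.Quotient.mk_surjective,
          ← RingHom.ker_eq_comap_bot, Ideal.mk_ker, sup_of_le_left hJq]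
      have hprime : q'.IsPrime := by
        rw [hq']
        apply Ideal.map_isPrime_of_surjective Ideal.Quotient.mk_surjective
        rwa [Ideal.mk_ker]
      refine flat_quotient J q q' hcomap ?_
      let ωC : (C ⧸ J) →ₐ[A] D ⧸ J.map (algebraMap C D) :=
        Ideal.quotientMapₐ (J.map (algebraMap C D)) (IsScalarTower.toAlgHom A C D)
          Ideal.le_comap_map
      let ωB : B →ₐ[A] D ⧸ J.map (algebraMap C D) :=
        (Ideal.Quotient.mkₐ A _).comp (IsScalarTower.toAlgHom A B D)
      let ω : (C ⧸ J) ⊗[A] B →ₐ[A] D ⧸ J.map (algebraMap C D) :=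
        Algebra.TensorProduct.lift ωC ωB (fun _ _ => Commute.all _ _)
      have hωt : ∀ x y, ω (x ⊗ₜ y) = ωC x * ωB y := fun x y =>
        Algebra.TensorProduct.lift_tmul _ _ _ x y
      have hbij : Function.Bijective ω := by
        apply bijective_quot hτ J hfinm ω.toRingHom
        · intro x
          change ω _ = _
          rw [hωt, map_one, mul_one]
          rfl
        · intro y
          change ω _ = _
          rw [hωt, map_one, one_mul]
          rfl
      have e1 : algebraMap (C ⧸ J) (D ⧸ J.map (algebraMap C D)) =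
          ω.toRingHom.comp (algebraMap (C ⧸ J) ((C ⧸ J) ⊗[A] B)) := by
        apply Ideal.Quotient.ringHom_ext
        ext x
        have : ω (Ideal.Quotient.mk J x ⊗ₜ 1) = ωC (Ideal.Quotient.mk J x) := by
          rw [hωt, map_one, mul_one]
        exact this.symm
      rw [e1]
      refine FlatAt.comp rfl (flatAt_baseChange _ ?_) (of_flat (RingHom.Flat.of_bijective hbij) q')
      have e2 : (q'.comap ω.toRingHom).comap
          (Algebra.TensorProduct.includeRight : B →ₐ[A] (C ⧸ J) ⊗[A] B).toRingHom =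
          q.comap (algebraMap B D) := by
        rw [Ideal.comap_comap]
        ext y
        have h3 : ω ((1 : C ⧸ J) ⊗ₜ y) = Ideal.Quotient.mk _ (algebraMap B D y) := by
          rw [hωt, map_one, one_mul]
          rfl
        rw [Ideal.mem_comap, Ideal.mem_comap, ← hcomap, Ideal.mem_comap, ← h3]
        rfl
      convert hflat using 1
  have h4 : (algebraMap C (Localization.AtPrime q)).Flat := RingHom.flat_algebraMap_iff.mpr key
  rwa [IsScalarTower.algebraMap_eq C D (Localization.AtPrime q)] at h4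

end Main

end K24.TensFlat
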