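import Groth.Agent.AdicRing.K24.TensFlat
import Groth.Agent.AdicRing.K24.CLocTens
import Groth.Agent.AdicRing.K24.Main
import Groth.Agent.Ega4A.CompleteNoeth
import Mathlib.RingTheory.TensorProduct.Free

/-!
# Rig-flatness is stable under completed base change (`S8846`)
-/

set_option autoImplicit false
universe u

namespace K24.TensMain

open K24.Rig K24.CLoc K24.FlatAt K24.CplQuot K24.Tft K24.RigFlat K24.Main TensorProduct

section

variable {A B C D : Type u} [CommRing A] [CommRing B] [CommRing C] [CommRing D]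
  [Algebra A B] [Algebra A C] {I : Ideal A}

/-- The completed tensor product is topologically of finite type over `A`. -/
theorem tft_tensor [IsNoetherianRing A] (tB : TFT I (algebraMap A B)) (tC : TFT I (algebraMap A C))
    (κ : C ⊗[A] B →+* D) (hκ : IsCLoc (I.map (algebraMap A (C ⊗[A] B))) 1 κ) :
    TFT I (κ.comp (algebraMap A (C ⊗[A] B))) := by
  have e : (I.map (algebraMap A (C ⊗[A] B))).map κ = I.map (κ.comp (algebraMap A (C ⊗[A] B))) :=
    Ideal.map_map _ _
  let _ : Algebra A D := (κ.comp (algebraMap A (C ⊗[A] B))).toAlgebra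
  let κa : C ⊗[A] B →ₐ[A] D := { κ with commutes' := fun x => rfl }
  have e' : (I.map (algebraMap A (C ⊗[A] B))).map κ = I.map (algebraMap A D) := e
  have hcomp : IsAdicComplete (I.map (algebraMap A D)) D := by rw [← e']; exact hκ.complete
  have hftB : Algebra.FiniteType A (B ⧸ I.map (algebraMap A B)) := by
    rw [← RingHom.finiteType_algebraMap]; exact tB.ft
  have hftC : Algebra.FiniteType A (C ⧸ I.map (algebraMap A C)) := by
    rw [← RingHom.finiteType_algebraMap]; exact tC.ft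
  have hftD : Algebra.FiniteType A (D ⧸ I.map (algebraMap A D)) := by
    let ιB : B →ₐ[A] D := κa.comp Algebra.TensorProduct.includeRight
    let ιC : C →ₐ[A] D := κa.comp Algebra.TensorProduct.includeLeft
    let σB : (B ⧸ I.map (algebraMap A B)) →ₐ[A] (D ⧸ I.map (algebraMap A D)) :=
      Ideal.quotientMapₐ (I.map (algebraMap A D)) ιB (by
        rw [Ideal.map_le_iff_le_comap]
        intro x hx
        change ιB (algebraMap A B x) ∈ I.map (algebraMap A D)
        rw [ιB.commutes]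
        exact Ideal.mem_map_of_mem _ hx)
    let σC : (C ⧸ I.map (algebraMap A C)) →ₐ[A] (D ⧸ I.map (algebraMap A D)) :=
      Ideal.quotientMapₐ (I.map (algebraMap A D)) ιC (by
        rw [Ideal.map_le_iff_le_comap]
        intro x hx
        change ιC (algebraMap A C x) ∈ I.map (algebraMap A D)
        rw [ιC.commutes]
        exact Ideal.mem_map_of_mem _ hx)
    let σ : (C ⧸ I.map (algebraMap A C)) ⊗[A] (B ⧸ I.map (algebraMap A B)) →ₐ[A]
        (D ⧸ I.map (algebraMap A D)) := Algebra.TensorProduct.lift σC σB (fun _ _ => Commute.all _ _)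
    have hσ : ∀ (x : C) (y : B), σ (Ideal.Quotient.mk _ x ⊗ₜ Ideal.Quotient.mk _ y) =
        Ideal.Quotient.mk _ (κ (x ⊗ₜ y)) := by
      intro x y
      have h1 : σ (Ideal.Quotient.mk _ x ⊗ₜ Ideal.Quotient.mk _ y) =
        σC (Ideal.Quotient.mk _ x) * σB (Ideal.Quotient.mk _ y) :=
        Algebra.TensorProduct.lift_tmul _ _ _ _ _
      rw [h1]
      change Ideal.Quotient.mk _ (κ (x ⊗ₜ 1)) * Ideal.Quotient.mk _ (κ (1 ⊗ₜ y)) = _
      rw [← map_mul, ← map_mul, Algebra.TensorProduct.tmul_mul_tmul, one_mul, mul_one]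
    have hσ' : ∀ t : C ⊗[A] B, ∃ z, σ z = Ideal.Quotient.mk _ (κ t) := by
      intro t
      induction t with
      | zero => exact ⟨0, by rw [map_zero, map_zero, map_zero]⟩
      | add x y hx hy =>
        obtain ⟨x', hx⟩ := hx
        obtain ⟨y', hy⟩ := hy
        exact ⟨x' + y', by rw [map_add, map_add, map_add, hx, hy]⟩
      | tmul x y => exact ⟨_, hσ x y⟩
    have hs : Function.Surjective σ := by
      intro z
      obtain ⟨z, rfl⟩ := Ideal.Quotient.mk_surjective z
      obtain ⟨x, k, hx⟩ := hκ.surj 1 z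
      rw [map_one, one_pow, one_mul, pow_one, e'] at hx
      obtain ⟨w, hw⟩ := hσ' x
      refine ⟨w, ?_⟩
      rw [hw, eq_comm, Ideal.Quotient.eq]
      exact hx
    have hft : Algebra.FiniteType A
        ((C ⧸ I.map (algebraMap A C)) ⊗[A] (B ⧸ I.map (algebraMap A B))) :=
      Algebra.FiniteType.trans (S := C ⧸ I.map (algebraMap A C)) hftC inferInstance
    exact Algebra.FiniteType.of_surjective σ hs
  have hN : IsNoetherianRing (D ⧸ I.map (algebraMap A D)) :=
    Algebra.FiniteType.isNoetherianRing A _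
  refine ⟨?_, ?_, ?_⟩
  · exact Groth.Agent.Ega4A.CompleteNoeth.isNoetherianRing_of_isAdicComplete
      (I.map (algebraMap A D)) (Ideal.FG.map (IsNoetherian.noetherian I) _)
  · exact hcomp
  · have := (RingHom.finiteType_algebraMap (A := A) (B := D ⧸ I.map (algebraMap A D))).mpr hftD
    exact this

/-- `S8846`. -/
theorem rigFlat_tensor [IsNoetherianRing A] (tB : TFT I (algebraMap A B))
    (tC : TFT I (algebraMap A C)) (κ : C ⊗[A] B →+* D)
    (hκ : IsCLoc (I.map (algebraMap A (C ⊗[A] B))) 1 κ) (hAB : RigFlat I (algebraMap A B)) :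
    RigFlat (I.map (algebraMap A C)) (κ.comp (algebraMap C (C ⊗[A] B))) := by
  intro h C₁ D₁ _ _ c₁ d₁ ψ hc₁ hd₁ hψ
  have hBn := tB.noeth
  have hCn := tC.noeth
  have hCc := tC.complete
  have hBc := tB.complete
  have tD := tft_tensor tB tC κ hκ
  have hDn := tD.noeth
  have hC₁n := hc₁.isNoetherianRing
  have hD₁n := hd₁.isNoetherianRing
  set χ : C →+* D := κ.comp (algebraMap C (C ⊗[A] B)) with hχ
  have hχγ : χ.comp (algebraMap A C) = κ.comp (algebraMap A (C ⊗[A] B)) := by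
    rw [hχ, RingHom.comp_assoc, ← IsScalarTower.algebraMap_eq]
  -- the structure map `ρ : A → D₁`
  set ρ : A →+* D₁ := d₁.comp (κ.comp (algebraMap A (C ⊗[A] B))) with hρ
  have hρψ : ρ = (ψ.comp c₁).comp (algebraMap A C) := by
    rw [hψ, hρ, RingHom.comp_assoc, hχγ]
  have eD : (I.map (algebraMap A C)).map χ = I.map (κ.comp (algebraMap A (C ⊗[A] B))) := by
    rw [Ideal.map_map, hχγ]
  have tρ : TFT I ρ := by
    have hd₁' : IsCLoc (I.map (κ.comp (algebraMap A (C ⊗[A] B)))) (χ h) d₁ := by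
      rw [← eD]; exact hd₁
    exact tD.comp hd₁'.tft
  have eρ : ((I.map (algebraMap A C)).map c₁).map ψ = I.map ρ := by
    rw [Ideal.map_map, Ideal.map_map, hρψ, RingHom.comp_assoc]
  have hD₁c := tρ.complete
  have hD₁c' : IsAdicComplete (((I.map (algebraMap A C)).map c₁).map ψ) D₁ := by
    rw [eρ]; exact hD₁c
  apply NRF.of_rigClosed
  intro q hq
  have hq' : RigClosed (I.map ρ) q := by rwa [eρ] at hq
  obtain ⟨f, hf, H⟩ := K24.Below.exists_below tρ q hq'
  have hρf : ρ f = ψ (c₁ (algebraMap A C f)) := RingHom.congr_fun hρψ f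
  -- models
  obtain ⟨A₂, _, a, ha⟩ := exists_isCLoc I (IsNoetherian.noetherian I) f
  obtain ⟨B₂, _, b, hb⟩ := exists_isCLoc (I.map (algebraMap A B)) (IsNoetherian.noetherian _)
    (algebraMap A B f)
  obtain ⟨C₂, _, c, hc⟩ := exists_isCLoc ((I.map (algebraMap A C)).map c₁)
    (IsNoetherian.noetherian _) (c₁ (algebraMap A C f))
  obtain ⟨D₂, _, d, hd⟩ := exists_isCLoc (((I.map (algebraMap A C)).map c₁).map ψ)
    (IsNoetherian.noetherian _) (ψ (c₁ (algebraMap A C f)))
  have hdρ : IsCLoc (I.map ρ) (ρ f) d := by rw [← eρ, hρf]; exact hd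
  have hA₂n := ha.isNoetherianRing
  have hA₂c := ha.complete
  have hB₂n := hb.isNoetherianRing
  have hB₂c := hb.complete
  have hC₂n := hc.isNoetherianRing
  have hD₂n := hd.isNoetherianRing
  have hD₂c := hdρ.complete
  have hcc : IsCLoc (I.map (algebraMap A C)) (h * algebraMap A C f) (c.comp c₁) :=
    K24.CLocTens.comp hc₁ hc
  obtain ⟨φ₂, hφ₂⟩ := exists_map ha hb hb.isUnit
  obtain ⟨γ₂, hγ₂⟩ : ∃ γ₂ : A₂ →+* C₂, γ₂.comp a = (c.comp c₁).comp (algebraMap A C) :=
    exists_map ha hcc hc.isUnit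
  obtain ⟨χ₂, hχ₂⟩ := exists_map hc hd hd.isUnit
  have hρB : (((d.comp d₁).comp κ).comp
      (Algebra.TensorProduct.includeRight : B →ₐ[A] C ⊗[A] B).toRingHom).comp (algebraMap A B) =
      d.comp ρ := by
    rw [RingHom.comp_assoc]
    have : (Algebra.TensorProduct.includeRight : B →ₐ[A] C ⊗[A] B).toRingHom.comp
      (algebraMap A B) = algebraMap A (C ⊗[A] B) :=
      (Algebra.TensorProduct.includeRight : B →ₐ[A] C ⊗[A] B).comp_algebraMap
    rw [this]
    rfl
  obtain ⟨δ₂, hδ₂⟩ : ∃ δ₂ : B₂ →+* D₂, δ₂.comp b = ((d.comp d₁).comp κ).comp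
      (Algebra.TensorProduct.includeRight : B →ₐ[A] C ⊗[A] B).toRingHom := by
    refine hb.exists_lift ((I.map ρ).map d) _ ?_ ?_
    · rw [Ideal.map_map, hρB, Ideal.map_map]
    · have := RingHom.congr_fun hρB f
      change IsUnit ((((d.comp d₁).comp κ).comp
        (Algebra.TensorProduct.includeRight : B →ₐ[A] C ⊗[A] B).toRingHom).comp (algebraMap A B) f)
      rw [this]
      exact hdρ.isUnit
  have hδφ : (δ₂.comp φ₂).comp a = d.comp ρ := by
    rw [RingHom.comp_assoc, hφ₂, ← RingHom.comp_assoc, hδ₂, hρB]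
  have hχγ₂ : (χ₂.comp γ₂).comp a = d.comp ρ := by
    rw [RingHom.comp_assoc, hγ₂, ← RingHom.comp_assoc, ← RingHom.comp_assoc, hχ₂, hρψ,
      RingHom.comp_assoc, RingHom.comp_assoc, RingHom.comp_assoc]
  have hsq : δ₂.comp φ₂ = χ₂.comp γ₂ := by
    apply ha.hom_ext ((I.map ρ).map d)
    · rw [hδφ, Ideal.map_map]
    · rw [hδφ, hχγ₂]
  let _ : Algebra A₂ B₂ := φ₂.toAlgebra
  let _ : Algebra A₂ C₂ := γ₂.toAlgebra
  let _ : Algebra C₂ D₂ := χ₂.toAlgebra
  let _ : Algebra B₂ D₂ := δ₂.toAlgebra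
  let _ : Algebra A₂ D₂ := (χ₂.comp γ₂).toAlgebra
  have _ : IsScalarTower A₂ C₂ D₂ := IsScalarTower.of_algebraMap_eq fun x => rfl
  have _ : IsScalarTower A₂ B₂ D₂ := IsScalarTower.of_algebraMap_eq fun x =>
    (RingHom.congr_fun hsq x).symm
  -- the completed tensor product
  have hθ : IsCLoc (I.map (algebraMap A (C ⊗[A] B))) ((h * algebraMap A C f) ⊗ₜ 1)
      ((d.comp d₁).comp κ) := by
    have e1 : (I.map (algebraMap A C)).map χ = (I.map (algebraMap A (C ⊗[A] B))).map κ := by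
      rw [eD, Ideal.map_map]
    have h1 : IsCLoc ((I.map (algebraMap A (C ⊗[A] B))).map κ) (κ (h ⊗ₜ 1)) d₁ := by
      rw [← e1]; exact hd₁
    have h2 := K24.CLocTens.comp hκ h1
    have e2 : ((I.map (algebraMap A C)).map c₁).map ψ =
        (I.map (algebraMap A (C ⊗[A] B))).map (d₁.comp κ) := by
      rw [eρ, hρ, Ideal.map_map, RingHom.comp_assoc]
    have e3 : ψ (c₁ (algebraMap A C f)) = (d₁.comp κ) (algebraMap A C f ⊗ₜ 1) :=
      RingHom.congr_fun hψ _
    have h3 : IsCLoc ((I.map (algebraMap A (C ⊗[A] B))).map (d₁.comp κ))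
        ((d₁.comp κ) (algebraMap A C f ⊗ₜ 1)) d := by
      rw [← e2, ← e3]; exact hd
    have h4 := K24.CLocTens.comp h2 h3
    have e4 : (1 : C ⊗[A] B) * (h ⊗ₜ 1) * (algebraMap A C f ⊗ₜ 1) =
        (h * algebraMap A C f) ⊗ₜ 1 := by
      rw [one_mul, Algebra.TensorProduct.tmul_mul_tmul, mul_one]
    rw [e4] at h4
    exact h4
  have hτ := K24.CLocTens.isCLoc_tensor (h * algebraMap A C f) (algebraMap A B f) hb hcc
    (IsScalarTower.toAlgHom A₂ C₂ D₂) (IsScalarTower.toAlgHom A₂ B₂ D₂) ((d.comp d₁).comp κ)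
    (fun x => by
      have h1 : χ₂ (c (c₁ x)) = d (ψ (c₁ x)) := RingHom.congr_fun hχ₂ _
      have h2 : ψ (c₁ x) = d₁ (κ (x ⊗ₜ 1)) := RingHom.congr_fun hψ x
      change d (d₁ (κ (x ⊗ₜ 1))) = χ₂ (c (c₁ x))
      rw [h1, h2])
    (fun y => (RingHom.congr_fun hδ₂ y).symm) hθ
    (fun x => (RingHom.congr_fun hγ₂ x).symm) (fun x => (RingHom.congr_fun hφ₂ x).symm) f rfl h rfl
  -- the prime `q D₂`
  have hprime : (q.asIdeal.map d).IsPrime := hdρ.isPrime_map q.asIdeal hf
  let q₂ : PrimeSpectrum D₂ := ⟨q.asIdeal.map d, hprime⟩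
  have hp₂ : RigClosed (I.map a) (PrimeSpectrum.comap (χ₂.comp γ₂) q₂) :=
    H a d (χ₂.comp γ₂) ha hdρ hχγ₂ q₂ rfl
  have tD₂ : TFT (I.map a) (χ₂.comp γ₂) := by
    have : TFT I ((χ₂.comp γ₂).comp a) := by rw [hχγ₂]; exact tρ.comp hdρ.tft
    exact this.of_comp
  have hq₂ : RigClosed ((I.map a).map (χ₂.comp γ₂)) q₂ := by
    have h1 := hdρ.rigClosed_map q hq' hf q₂ rfl
    rw [Ideal.map_map, hχγ₂, ← Ideal.map_map]
    exact h1
  have hfin : ((Ideal.Quotient.mk q₂.asIdeal).comp (algebraMap A₂ D₂)).Finite :=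
    tD₂.finite_of_rigClosed q₂ hq₂ hp₂
  have hnot : ¬ (I.map a).map φ₂ ≤ q₂.asIdeal.comap δ₂ := by
    intro hle
    apply hq₂.1
    rw [← hsq, ← Ideal.map_map, Ideal.map_le_iff_le_comap]
    exact hle
  have hflat : FlatAt (algebraMap A₂ B₂) (q₂.asIdeal.comap (algebraMap B₂ D₂)) :=
    hAB f A₂ B₂ a b φ₂ ha hb hφ₂ (q₂.asIdeal.comap δ₂) hnot
  have hB₂c' : IsAdicComplete ((I.map a).map (algebraMap A₂ B₂)) B₂ := by
    have : (I.map a).map (algebraMap A₂ B₂) = (I.map (algebraMap A B)).map b := by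
      rw [Ideal.map_map, Ideal.map_map]
      exact congrArg (fun g => I.map g) hφ₂
    rw [this]
    exact hB₂c
  have hfl : FlatAt χ₂ q₂.asIdeal := K24.TensFlat.flatAt hτ q₂.asIdeal hfin hflat
  exact flatAt_of_cloc hc hd hχ₂ q.asIdeal (by rw [← hρf]; exact hf) q₂.asIdeal rfl hfl

/-- `S8846`, for the adic completion of the tensor product. -/
theorem rigFlat_completion [IsNoetherianRing A] (tB : TFT I (algebraMap A B))
    (tC : TFT I (algebraMap A C)) (hAB : ConcreteRigFlat A B I) (J : Ideal (C ⊗[A] B))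
    (hJ : J = (I.map (algebraMap A C)).map (algebraMap C (C ⊗[A] B))) :
    IsNoetherianRing (AdicCompletion J (C ⊗[A] B)) ∧
      RigFlat (I.map (algebraMap A C)) (algebraMap C (AdicCompletion J (C ⊗[A] B))) := by
  have eJ : I.map (algebraMap A (C ⊗[A] B)) = J := by
    rw [hJ, Ideal.map_map, ← IsScalarTower.algebraMap_eq]
  have hJfg : J.FG := by
    rw [← eJ]
    exact Ideal.FG.map (IsNoetherian.noetherian I) _
  have hκ : IsCLoc (I.map (algebraMap A (C ⊗[A] B))) 1
      (algebraMap (C ⊗[A] B) (AdicCompletion J (C ⊗[A] B))) := by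
    rw [eJ]
    exact K24.CplQuot.isCLoc_completion J hJfg
  have hBn := tB.noeth
  have hCn := tC.noeth
  have hDn := (tft_tensor tB tC _ hκ).noeth
  refine ⟨hDn, ?_⟩
  rw [rigFlat_iff] at hAB
  rw [IsScalarTower.algebraMap_eq C (C ⊗[A] B) (AdicCompletion J (C ⊗[A] B))]
  exact rigFlat_tensor tB tC _ hκ hAB

end

end K24.TensMain
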