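import Groth.Agent.AdicRing.K24.Rig
import Mathlib.RingTheory.Unramified.LocalRing
import Mathlib.RingTheory.Unramified.Basic
import Mathlib.RingTheory.Etale.Basic
import Mathlib.RingTheory.Finiteness.NilpotentKer
import Mathlib.RingTheory.Nakayama
import Mathlib.RingTheory.Kaehler.Basic

/-!
# `p B_q = q B_q` at rig-closed primes when the reduction is étale (`S8838`)
-/

set_option autoImplicit false
universe u

namespace K24.Unram

open K24.Rig KaehlerDifferential

/-- If `D / I D` is formally unramified over `A`, `I D` lies in the Jacobson radical and `Ω[D⁄A]` is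
finite, then `D` is formally unramified over `A`. -/
theorem formallyUnramified_of_quotient {A D : Type*} [CommRing A] [CommRing D] [Algebra A D]
    [Module.Finite D Ω[D⁄A]] (I : Ideal A) (hI : I.map (algebraMap A D) ≤ Ideal.jacobson ⊥)
    (h : Algebra.FormallyUnramified A (D ⧸ I.map (algebraMap A D))) :
    Algebra.FormallyUnramified A D := by
  set J := I.map (algebraMap A D) with hJ
  let N : Submodule D Ω[D⁄A] := J • ⊤
  let δ : Derivation A D (Ω[D⁄A] ⧸ N) := (Submodule.mkQ N).compDer (KaehlerDifferential.D A D)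
  have hδ : ∀ x ∈ J, δ x = 0 := by
    intro x hx
    rw [hJ] at hx
    refine Submodule.span_induction ?_ ?_ ?_ ?_ hx
    · rintro _ ⟨a, ha, rfl⟩
      exact δ.map_algebraMap a
    · exact map_zero _
    · intro x y _ _ hx hy
      rw [map_add, hx, hy, add_zero]
    · intro c y hy hy0
      rw [smul_eq_mul, Derivation.leibniz, hy0, smul_zero, zero_add]
      change y • Submodule.mkQ N (KaehlerDifferential.D A D c) = 0
      rw [← map_smul]
      exact (Submodule.Quotient.mk_eq_zero _).mpr (Submodule.smul_mem_smul hy trivial)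
  let g : (D ⧸ J) →ₗ[A] (Ω[D⁄A] ⧸ N) :=
    (J.restrictScalars A).liftQ δ.toLinearMap (fun x hx => hδ x hx)
  have hg : ∀ x : D, g (Ideal.Quotient.mk J x) = δ x := fun x => rfl
  let δ' : Derivation A (D ⧸ J) (Ω[D⁄A] ⧸ N) := Derivation.mk' g (by
    intro a b
    obtain ⟨a, rfl⟩ := Ideal.Quotient.mk_surjective a
    obtain ⟨b, rfl⟩ := Ideal.Quotient.mk_surjective b
    rw [← map_mul, hg, hg, hg, Derivation.leibniz]
    rfl)
  have hδ' : δ' = 0 := by
    have hs : Subsingleton Ω[(D ⧸ J)⁄A] := inferInstance
    have h1 := δ'.liftKaehlerDifferential_comp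
    rw [← h1]
    ext x
    change δ'.liftKaehlerDifferential (KaehlerDifferential.D A (D ⧸ J) x) = 0
    rw [Subsingleton.elim (KaehlerDifferential.D A (D ⧸ J) x) 0, map_zero]
  have hD : ∀ x : D, KaehlerDifferential.D A D x ∈ N := by
    intro x
    have h1 : δ' (Ideal.Quotient.mk J x) = 0 := by rw [hδ']; rfl
    exact (Submodule.Quotient.mk_eq_zero _).mp h1
  have htop : (⊤ : Submodule D Ω[D⁄A]) ≤ J • ⊤ := by
    refine (KaehlerDifferential.span_range_derivation A D).ge.trans (Submodule.span_le.mpr ?_)
    rintro _ ⟨x, rfl⟩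
    exact hD x
  have hbot := Submodule.eq_bot_of_le_smul_of_le_jacobson_bot J ⊤ Module.Finite.fg_top htop hI
  constructor
  exact (Submodule.subsingleton_iff D).mp (subsingleton_of_bot_eq_top hbot.symm)

/-- If `B / q` is finite over `A`, `q` is finitely generated and `q ^ n ≤ J ≤ q`, then `B / J` is finite
over `A`. -/
theorem finite_quotient_of_pow_le {A B : Type*} [CommRing A] [CommRing B] [IsNoetherianRing B]
    [Algebra A B] (q J : Ideal B) (n : ℕ) (h1 : q ^ n ≤ J) (h2 : J ≤ q)
    [Module.Finite A (B ⧸ q)] : Module.Finite A (B ⧸ J) := by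
  refine Module.finite_of_surjective_of_ker_le_nilradical (Ideal.Quotient.factorₐ A h2)
    (Ideal.Quotient.factor_surjective h2) ?_ (IsNoetherian.noetherian _)
  intro x hx
  obtain ⟨x, rfl⟩ := Ideal.Quotient.mk_surjective x
  have hxq : x ∈ q := by
    have : Ideal.Quotient.mk q x = 0 := hx
    exact Ideal.Quotient.eq_zero_iff_mem.mp this
  refine ⟨n, ?_⟩
  rw [← map_pow]
  exact Ideal.Quotient.eq_zero_iff_mem.mpr (h1 (Ideal.pow_mem_pow hxq n))

/-- Key computation: if `B / q` is finite over `A` and `B / I B` is formally unramified over `A` with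
`I B` in the Jacobson radical, then `(q ∩ A) B_q = q B_q`. -/
theorem map_eq_maximalIdeal {A B : Type u} [CommRing A] [CommRing B] [IsNoetherianRing B]
    [Algebra A B] (I : Ideal A) (hI : I.map (algebraMap A B) ≤ Ideal.jacobson ⊥)
    (hu : Algebra.FormallyUnramified A (B ⧸ I.map (algebraMap A B))) (q : Ideal B) [q.IsPrime]
    [Module.Finite A (B ⧸ q)] :
    ((q.comap (algebraMap A B)).map (algebraMap A B)).map
      (algebraMap B (Localization.AtPrime q)) =
      IsLocalRing.maximalIdeal (Localization.AtPrime q) := by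
  set p := q.comap (algebraMap A B) with hp
  have hpq : p.map (algebraMap A B) ≤ q := Ideal.map_comap_le
  set J : Ideal B := q ^ 2 ⊔ p.map (algebraMap A B) with hJ
  have hJq : J ≤ q := sup_le (Ideal.pow_le_self two_ne_zero) hpq
  have hfin : Module.Finite A (B ⧸ J) := finite_quotient_of_pow_le q J 2 le_sup_left hJq
  -- `D = B / J` is formally unramified over `A`
  have hjac : I.map (algebraMap A (B ⧸ J)) ≤ Ideal.jacobson ⊥ := by
    have h1 : I.map (algebraMap A (B ⧸ J)) =
        (I.map (algebraMap A B)).map (Ideal.Quotient.mk J) := by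
      rw [Ideal.map_map]; rfl
    rw [h1]
    refine (Ideal.map_mono hI).trans ?_
    refine (Ideal.map_le_iff_le_comap).mpr ?_
    intro x hx
    rw [Ideal.mem_comap, Ideal.mem_jacobson_bot]
    intro y
    obtain ⟨y, rfl⟩ := Ideal.Quotient.mk_surjective y
    have h2 := (Ideal.mem_jacobson_bot.mp hx y).map (Ideal.Quotient.mk J)
    simpa using h2
  have hu' : Algebra.FormallyUnramified A ((B ⧸ J) ⧸ I.map (algebraMap A (B ⧸ J))) := by
    let f : (B ⧸ I.map (algebraMap A B)) →ₐ[A] ((B ⧸ J) ⧸ I.map (algebraMap A (B ⧸ J))) :=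
      Ideal.Quotient.liftₐ _ ((Ideal.Quotient.mkₐ A (I.map (algebraMap A (B ⧸ J)))).comp
        (Ideal.Quotient.mkₐ A J)) (by
        intro a ha
        refine Ideal.Quotient.eq_zero_iff_mem.mpr ?_
        have h1 : I.map (algebraMap A (B ⧸ J)) =
          (I.map (algebraMap A B)).map (Ideal.Quotient.mk J) := by
          rw [Ideal.map_map]; rfl
        rw [h1]
        exact Ideal.mem_map_of_mem _ ha)
    refine Algebra.FormallyUnramified.of_surjective f ?_
    intro y
    obtain ⟨y, rfl⟩ := Ideal.Quotient.mk_surjective y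
    obtain ⟨y, rfl⟩ := Ideal.Quotient.mk_surjective y
    exact ⟨Ideal.Quotient.mk _ y, rfl⟩
  have hD : Algebra.FormallyUnramified A (B ⧸ J) := formallyUnramified_of_quotient I hjac hu'
  -- localize
  let Q : Ideal (B ⧸ J) := q.map (Ideal.Quotient.mk J)
  have hQc : Q.comap (Ideal.Quotient.mk J) = q := by
    rw [Ideal.comap_map_of_surjective _ Ideal.Quotient.mk_surjective]
    refine sup_eq_left.mpr ?_
    intro x hx
    have : Ideal.Quotient.mk J x = 0 := hx
    exact hJq (Ideal.Quotient.eq_zero_iff_mem.mp this)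
  have hQ : Q.IsPrime := Ideal.map_isPrime_of_surjective Ideal.Quotient.mk_surjective
    (by rw [Ideal.mk_ker]; exact hJq)
  have hpQ : p = Q.comap (algebraMap A (B ⧸ J)) := by
    change p = Q.comap ((Ideal.Quotient.mk J).comp (algebraMap A B))
    rw [← Ideal.comap_comap, hQc]
  have hpp : p.IsPrime := by rw [hp]; infer_instance
  let _ : Algebra (Localization.AtPrime p) (Localization.AtPrime Q) :=
    (Localization.localRingHom p Q (algebraMap A (B ⧸ J)) hpQ).toAlgebra
  have _ : IsScalarTower A (Localization.AtPrime p) (Localization.AtPrime Q) := by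
    refine IsScalarTower.of_algebraMap_eq fun x => ?_
    rw [IsScalarTower.algebraMap_apply A (B ⧸ J) (Localization.AtPrime Q)]
    exact (Localization.localRingHom_to_map p Q (algebraMap A (B ⧸ J)) hpQ x).symm
  have _ : IsLocalHom (algebraMap (Localization.AtPrime p) (Localization.AtPrime Q)) :=
    Localization.isLocalHom_localRingHom p Q (algebraMap A (B ⧸ J)) hpQ
  have _ : Algebra.FormallyUnramified A (Localization.AtPrime Q) :=
    Algebra.FormallyUnramified.comp A (B ⧸ J) _
  have _ : Algebra.FormallyUnramified (Localization.AtPrime p) (Localization.AtPrime Q) :=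
    Algebra.FormallyUnramified.of_restrictScalars A _ _
  have _ : Algebra.EssFiniteType A (Localization.AtPrime Q) :=
    Algebra.EssFiniteType.comp A (B ⧸ J) _
  have _ : Algebra.EssFiniteType (Localization.AtPrime p) (Localization.AtPrime Q) :=
    Algebra.EssFiniteType.of_comp A _ _
  have hmap := Algebra.FormallyUnramified.map_maximalIdeal (R := Localization.AtPrime p)
    (S := Localization.AtPrime Q)
  have hzero : (IsLocalRing.maximalIdeal (Localization.AtPrime Q)) = ⊥ := by
    rw [← hmap, ← Localization.AtPrime.map_eq_maximalIdeal, Ideal.map_map,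
      ← IsScalarTower.algebraMap_eq, IsScalarTower.algebraMap_eq A (B ⧸ J), ← Ideal.map_map,
      IsScalarTower.algebraMap_eq A B (B ⧸ J), ← Ideal.map_map]
    have h1 : (p.map (algebraMap A B)).map (algebraMap B (B ⧸ J)) = ⊥ := by
      rw [Ideal.map_eq_bot_iff_le_ker]
      intro x hx
      exact Ideal.Quotient.eq_zero_iff_mem.mpr (le_sup_right (a := q ^ 2) hx)
    rw [h1, Ideal.map_bot]
  have hkey : ∀ x ∈ q, ∃ s ∉ q, s * x ∈ J := by
    intro x hx
    have h1 : algebraMap (B ⧸ J) (Localization.AtPrime Q) (Ideal.Quotient.mk J x) = 0 := by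
      have h2 : algebraMap (B ⧸ J) (Localization.AtPrime Q) (Ideal.Quotient.mk J x) ∈
          IsLocalRing.maximalIdeal (Localization.AtPrime Q) := by
        rw [← Localization.AtPrime.map_eq_maximalIdeal]
        exact Ideal.mem_map_of_mem _ (Ideal.mem_map_of_mem _ hx)
      rw [hzero] at h2
      exact h2
    obtain ⟨⟨s, hs⟩, hsx⟩ := (IsLocalization.map_eq_zero_iff Q.primeCompl _ _).mp h1
    obtain ⟨s, rfl⟩ := Ideal.Quotient.mk_surjective s
    refine ⟨s, fun hsq => hs (Ideal.mem_map_of_mem _ hsq), ?_⟩
    rw [← Ideal.Quotient.eq_zero_iff_mem, map_mul]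
    exact hsx
  -- Nakayama
  have hle : q.map (algebraMap B (Localization.AtPrime q)) ≤
      (p.map (algebraMap A B)).map (algebraMap B (Localization.AtPrime q)) ⊔
        IsLocalRing.maximalIdeal (Localization.AtPrime q) •
          q.map (algebraMap B (Localization.AtPrime q)) := by
    rw [Ideal.map_le_iff_le_comap]
    intro x hx
    obtain ⟨s, hs, hsx⟩ := hkey x hx
    have hunit : IsUnit (algebraMap B (Localization.AtPrime q) s) :=
      IsLocalization.map_units _ (⟨s, hs⟩ : q.primeCompl)
    rw [Ideal.mem_comap, ← Ideal.unit_mul_mem_iff_mem _ hunit, ← map_mul]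
    have h3 : J.map (algebraMap B (Localization.AtPrime q)) ≤
        (p.map (algebraMap A B)).map (algebraMap B (Localization.AtPrime q)) ⊔
        IsLocalRing.maximalIdeal (Localization.AtPrime q) •
          q.map (algebraMap B (Localization.AtPrime q)) := by
      rw [hJ, Ideal.map_sup, Ideal.map_pow, pow_two, Localization.AtPrime.map_eq_maximalIdeal,
        sup_comm]
      exact le_rfl
    exact h3 (Ideal.mem_map_of_mem _ hsx)
  have hfg : (q.map (algebraMap B (Localization.AtPrime q))).FG :=
    Ideal.FG.map (IsNoetherian.noetherian q) _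
  have hfin2 := Submodule.le_of_le_smul_of_le_jacobson_bot hfg
    (IsLocalRing.maximalIdeal_le_jacobson ⊥) hle
  rw [Localization.AtPrime.map_eq_maximalIdeal] at hfin2
  refine le_antisymm ?_ hfin2
  rw [← Localization.AtPrime.map_eq_maximalIdeal]
  exact Ideal.map_mono hpq

/-- `S8838`. -/
theorem map_comap_eq_maximalIdeal (A : Type u) [CommRing A] [IsNoetherianRing A] (I : Ideal A)
    [IsAdicComplete I A] (B : Type u) [CommRing B] [Algebra A B] [IsNoetherianRing B]
    [IsAdicComplete (I.map (algebraMap A B)) B]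
    (hft : Algebra.FiniteType A (B ⧸ (I.map (algebraMap A B))))
    [Algebra.Etale (A ⧸ I) (B ⧸ (I.map (algebraMap A B)))] (q : PrimeSpectrum B)
    (hq : RigClosed (I.map (algebraMap A B)) q)
    (hp : RigClosed I (PrimeSpectrum.comap (algebraMap A B) q)) :
    ((PrimeSpectrum.comap (algebraMap A B) q).asIdeal.map (algebraMap A B)).map
      (algebraMap B (Localization.AtPrime q.asIdeal)) =
      IsLocalRing.maximalIdeal (Localization.AtPrime q.asIdeal) := by
  have hfin : Module.Finite A (B ⧸ q.asIdeal) := finite_of_rigClosed A I B hft q hq hp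
  have hu : Algebra.FormallyUnramified A (B ⧸ I.map (algebraMap A B)) :=
    Algebra.FormallyUnramified.comp A (A ⧸ I) _
  exact map_eq_maximalIdeal I (IsAdicComplete.le_jacobson_bot _) hu q.asIdeal

end K24.Unram
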