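import Groth.Agent.AdicRing.K24.TftDef
import Groth.Agent.AdicRing.K24.Rig
import Groth.Agent.AdicRing.K24.Unram

/-!
# Rig-closed primes and adic maps topologically of finite type: ring hom versions
-/

set_option autoImplicit false
universe u

namespace K24.Tft

open K24.Rig K24.CLoc

/-- The reduction `A → B / I B` is formally unramified. -/
def Unr {A B : Type*} [CommRing A] [CommRing B] (I : Ideal A) (φ : A →+* B) : Prop :=
  ((Ideal.Quotient.mk (I.map φ)).comp φ).FormallyUnramified

section Unr

theorem unr_of_red {A B : Type*} [CommRing A] [CommRing B] {I : Ideal A} {φ : A →+* B}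
    (h : (Ideal.quotientMap (I.map φ) φ Ideal.le_comap_map).FormallyUnramified) : Unr I φ := by
  have h1 : (Ideal.Quotient.mk I).FormallyUnramified :=
    RingHom.FormallyUnramified.of_surjective Ideal.Quotient.mk_surjective
  exact h1.comp h

theorem _root_.K24.CLoc.IsCLoc.unr {A A' : Type u} [CommRing A] [CommRing A'] {I : Ideal A} {f : A}
    {a : A →+* A'} (h : IsCLoc I f a) : Unr I a :=
  unr_of_red h.etale_red.formallyUnramified

theorem Unr.comp {A B C : Type*} [CommRing A] [CommRing B] [CommRing C] {I : Ideal A}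
    {φ : A →+* B} {ψ : B →+* C} (h : Unr I φ) (h' : Unr (I.map φ) ψ) : Unr I (ψ.comp φ) := by
  let ρ : B ⧸ I.map φ →+* C ⧸ I.map (ψ.comp φ) :=
    Ideal.quotientMap (I.map (ψ.comp φ)) ψ (by
      rw [← Ideal.map_map]; exact Ideal.le_comap_map)
  have hρ : ρ.FormallyUnramified := by
    have h2 : (ρ.comp (Ideal.Quotient.mk (I.map φ))).FormallyUnramified := by
      have e : ρ.comp (Ideal.Quotient.mk (I.map φ)) =
        ((Ideal.quotEquivOfEq (Ideal.map_map φ ψ)).toRingHom).comp
          ((Ideal.Quotient.mk ((I.map φ).map ψ)).comp ψ) := by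
        ext x; rfl
      rw [e]
      exact RingHom.FormallyUnramified.comp h' (RingHom.FormallyUnramified.of_surjective
        (Ideal.quotEquivOfEq (Ideal.map_map φ ψ)).surjective)
    exact RingHom.FormallyUnramified.of_comp h2
  have e : (Ideal.Quotient.mk (I.map (ψ.comp φ))).comp (ψ.comp φ) =
      ρ.comp ((Ideal.Quotient.mk (I.map φ)).comp φ) := by ext x; rfl
  rw [Unr, e]
  exact RingHom.FormallyUnramified.comp h hρ

theorem Unr.of_comp {A B C : Type*} [CommRing A] [CommRing B] [CommRing C] {I : Ideal A}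
    {φ : A →+* B} {ψ : B →+* C} (h : Unr I (ψ.comp φ)) : Unr (I.map φ) ψ := by
  have e : (((Ideal.Quotient.mk ((I.map φ).map ψ)).comp ψ).comp φ) =
      ((Ideal.quotEquivOfEq (Ideal.map_map φ ψ).symm).toRingHom).comp
        ((Ideal.Quotient.mk (I.map (ψ.comp φ))).comp (ψ.comp φ)) := by
    ext x; rfl
  have h4 : (((Ideal.Quotient.mk ((I.map φ).map ψ)).comp ψ).comp φ).FormallyUnramified := by
    rw [e]
    exact RingHom.FormallyUnramified.comp h (RingHom.FormallyUnramified.of_surjective
        (Ideal.quotEquivOfEq (Ideal.map_map φ ψ).symm).surjective)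
  exact RingHom.FormallyUnramified.of_comp h4

end Unr

variable {A B : Type u} [CommRing A] [CommRing B] [IsNoetherianRing A] {I : Ideal A}
  [IsAdicComplete I A] {φ : A →+* B}

theorem TFT.finite_of_rigClosed (h : TFT I φ) (q : PrimeSpectrum B) (hq : RigClosed (I.map φ) q)
    (hp : RigClosed I (PrimeSpectrum.comap φ q)) :
    ((Ideal.Quotient.mk q.asIdeal).comp φ).Finite := by
  have := h.noeth
  have := h.complete
  let _ : Algebra A B := φ.toAlgebra
  exact K24.Rig.finite_of_rigClosed A I B h.ft q hq hp

theorem TFT.rigClosed_of_finite (h : TFT I φ) (q : PrimeSpectrum B) (hq : RigClosed (I.map φ) q)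
    (hfin : ((Ideal.Quotient.mk q.asIdeal).comp φ).Finite) :
    RigClosed I (PrimeSpectrum.comap φ q) := by
  have := h.noeth
  have := h.complete
  let _ : Algebra A B := φ.toAlgebra
  exact K24.Rig.rigClosed_of_finite A I B h.ft q hq hfin

theorem TFT.rigClosed_of_residue (h : TFT I φ) (q : PrimeSpectrum B) (hq : RigClosed (I.map φ) q)
    (hfin : ∀ m : Ideal B, m.IsMaximal → q.asIdeal ≤ m → ((Ideal.Quotient.mk m).comp φ).Finite) :
    RigClosed I (PrimeSpectrum.comap φ q) := by
  have := h.noeth
  have := h.complete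
  let _ : Algebra A B := φ.toAlgebra
  exact K24.Rig.rigClosed_of_residue A I B h.ft q hq hfin

theorem TFT.rigClosed_comap_of_isJacobsonRing (h : TFT I φ) (q : PrimeSpectrum B)
    (hq : RigClosed (I.map φ) q) (hJ : IsJacobsonRing (A ⧸ I)) :
    RigClosed I (PrimeSpectrum.comap φ q) := by
  have := h.noeth
  have := h.complete
  let _ : Algebra A B := φ.toAlgebra
  exact K24.Rig.rigClosed_comap_of_isJacobsonRing A I B h.ft q hq hJ

omit [IsNoetherianRing A] [IsAdicComplete I A] in
theorem map_comap_eq_maximalIdeal_of_finite (h : TFT I φ) (he : Unr I φ) (q : Ideal B) [q.IsPrime]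
    (hfin : ((Ideal.Quotient.mk q).comp φ).Finite) :
    ((q.comap φ).map φ).map (algebraMap B (Localization.AtPrime q)) =
      IsLocalRing.maximalIdeal (Localization.AtPrime q) := by
  have := h.noeth
  have := h.complete
  let _ : Algebra A B := φ.toAlgebra
  have hu : Algebra.FormallyUnramified A (B ⧸ I.map (algebraMap A B)) := he
  have : Module.Finite A (B ⧸ q) := hfin
  exact K24.Unram.map_eq_maximalIdeal I (IsAdicComplete.le_jacobson_bot _) hu q

theorem TFT.map_comap_eq_maximalIdeal (h : TFT I φ) (he : Unr I φ) (q : PrimeSpectrum B)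
    (hq : RigClosed (I.map φ) q) (hp : RigClosed I (PrimeSpectrum.comap φ q)) :
    ((q.asIdeal.comap φ).map φ).map (algebraMap B (Localization.AtPrime q.asIdeal)) =
      IsLocalRing.maximalIdeal (Localization.AtPrime q.asIdeal) :=
  map_comap_eq_maximalIdeal_of_finite h he q.asIdeal (h.finite_of_rigClosed q hq hp)

/-- Towers: if `A → B → C`, `q` rig-closed in `C` with rig-closed image in `A`, then its image in `B`
is rig-closed. -/
theorem TFT.rigClosed_of_tower {C : Type u} [CommRing C] (h : TFT I φ) {ψ : B →+* C}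
    (h' : TFT (I.map φ) ψ) (q : PrimeSpectrum C) (hq : RigClosed ((I.map φ).map ψ) q)
    (hp : RigClosed I (PrimeSpectrum.comap (ψ.comp φ) q)) :
    RigClosed (I.map φ) (PrimeSpectrum.comap ψ q) := by
  have := h.noeth
  have := h.complete
  apply h'.rigClosed_of_finite q hq
  have h1 := (h.comp h').finite_of_rigClosed q (by rwa [← Ideal.map_map]) hp
  rw [← RingHom.comp_assoc] at h1
  exact RingHom.Finite.of_comp_finite h1

end K24.Tft
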